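import Cfsg.Agent.Lib.TwoNilCent.Shape
import Cfsg.Agent.Lib.Goldschmidt.ThreeInv.Statement
import Cfsg.Agent.Lib.SuzukiRankOne.Kernel.Main

/-!
# The Sylow 2-subgroup of `PSU 3 F 4` and its automorphisms (owner: helper88)

* `USylow T` : the shape of `TwoNilCent` and no quaternion pairs;
* `USylow.aut_eq_one` : an automorphism of odd order centralising the centre and fixing a
  noncentral coset of the centre is trivial;
* `USylow.eq_top_of_invariant` : a non-trivial one leaves no proper subgroup above the centre invariant;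
* `setting` : the setting of the three involution theorem.
-/

set_option autoImplicit false
set_option linter.style.haveILetI false

namespace Cfsg.Agent.UFourSylow

open Subgroup Cfsg.Agent.TwoNilCent

/-- The properties of the Sylow 2-subgroup of `PSU 3 F 4` used below. -/
structure USylow (T : Type*) [Group T] : Prop where
  shape : Shape T
  noQuat : ∀ x y : T, x * x = y * y → (x * y) * (x * y) = x * x → x ∈ Subgroup.center T

theorem USylow.congr {A B : Type*} [Group A] [Group B] (e : A ≃* B) (h : USylow A) : USylow B := by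
  refine ⟨h.shape.congr e, fun x y h1 h2 => ?_⟩
  have := h.noQuat (e.symm x) (e.symm y) (by rw [← map_mul, ← map_mul, h1])
    (by rw [← map_mul, ← map_mul, ← map_mul, h2])
  rw [Subgroup.mem_center_iff] at this ⊢
  intro g
  apply e.symm.injective
  rw [map_mul, map_mul]
  exact this (e.symm g)

theorem usylow_psu {F : Type*} [Field F] [Fintype F] (hF : Fintype.card F = 16)
    (P : Sylow 2 (Cfsg.PSU 3 F 4)) : USylow (P : Subgroup (Cfsg.PSU 3 F 4)) := by
  classical
  have hF' : Fintype.card F = 4 ^ 2 := hF.trans (by norm_num)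
  have h2 : (2 : F) = 0 := by
    have h := Nat.cast_card_eq_zero F
    rw [hF] at h
    have h' : (2 : F) ^ 4 = 0 := by
      rw [← h]
      norm_num
    exact pow_eq_zero_iff (n := 4) (by norm_num) |>.1 h'
  obtain ⟨e⟩ := Unitary.exists_equiv (q := 4) (n := 2) (by norm_num) (by norm_num) hF' h2 P
  refine USylow.congr (A := Unitary.sylThree hF' h2) e ⟨shape_sylThree hF' h2, fun x y hxy hprod => ?_⟩
  rw [Unitary.mem_center_iff]
  have e1 := (Unitary.coord_sq x).2
  have e2 := (Unitary.coord_sq y).2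
  have e3 := (Unitary.coord_sq (x * y)).2
  rw [hxy] at e1
  rw [hprod, hxy, (Unitary.coord_mul x y).1] at e3
  rw [e2] at e1 e3
  set a := Unitary.coordA x
  set b := Unitary.coordA y
  by_contra ha
  have k1 : a * b ^ 4 + b * a ^ 4 = a ^ 5 := by
    linear_combination (-e3) - (a ^ 5 + 2 * a ^ 4 * b + 5 * a ^ 3 * b ^ 2 + 5 * a ^ 2 * b ^ 3
      + 2 * a * b ^ 4) * h2
  have hr : ∃ r : F, b = r * a := ⟨b / a, by rw [div_mul_cancel₀ _ ha]⟩
  obtain ⟨r, hb⟩ := hr
  rw [hb] at k1 e1
  have ha5 : a ^ 5 ≠ 0 := pow_ne_zero _ ha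
  have r1 : r ^ 5 = 1 := mul_right_cancel₀ ha5 (by linear_combination e1)
  have r2 : r ^ 4 + r = 1 := mul_right_cancel₀ ha5 (by linear_combination k1)
  have r3 : r ^ 3 = 1 := by linear_combination (r + 1) * (r * r2 - r1) - h2
  exact one_ne_zero (α := F) (by linear_combination r * r3 - r2 + r * h2)

variable {T : Type*} [Group T] [Finite T] (hT : Shape T)

include hT

theorem comm_of_sq {x y : T} (hc : x * y = y * x) (h : x * x = y * y) : x⁻¹ * y ∈ Subgroup.center T := by
  refine (hT.inv_iff _).1 ?_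
  have hc' : Commute x⁻¹ y := Commute.inv_left hc
  calc x⁻¹ * y * (x⁻¹ * y) = x⁻¹ * (y * x⁻¹) * y := by group
    _ = x⁻¹ * (x⁻¹ * y) * y := by rw [hc'.eq]
    _ = x⁻¹ * x⁻¹ * (y * y) := by group
    _ = 1 := by rw [← h]; group

/-- The centraliser of a noncentral element is abelian. -/
theorem cent_comm {s : T} (hs : s ∉ Subgroup.center T) :
    IsMulCommutative ↥(centralizer ({s} : Set T)) := by
  haveI : Fact (Nat.Prime 2) := ⟨Nat.prime_two⟩
  set D := centralizer ({s} : Set T)
  have hZD : Subgroup.center T ≤ D := fun z hz =>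
    mem_centralizer_singleton_iff.2 (Subgroup.mem_center_iff.1 hz s).symm
  have hsD : s ∈ D := mem_centralizer_singleton_iff.2 rfl
  have hle : (Subgroup.center T ⊔ zpowers s).subgroupOf D ≤ Subgroup.center ↥D := by
    intro d hd
    rw [mem_subgroupOf] at hd
    refine Subgroup.mem_center_iff.2 fun g => Subtype.ext ?_
    have h1 : Subgroup.center T ⊔ zpowers s ≤ centralizer ({(g : T)} : Set T) := by
      refine sup_le (fun z hz => ?_) (zpowers_le.2 ?_)
      · exact mem_centralizer_singleton_iff.2 (Subgroup.mem_center_iff.1 hz g).symm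
      · exact mem_centralizer_singleton_iff.2 (mem_centralizer_singleton_iff.1 g.2).symm
    exact (mem_centralizer_singleton_iff.1 (h1 hd)).symm
  have hlt : 4 < Nat.card ↥(Subgroup.center T ⊔ zpowers s : Subgroup T) := by
    rw [← hT.center_card]
    refine lt_of_le_of_ne (Subgroup.card_le_of_le le_sup_left) fun he => hs ?_
    rw [Subgroup.eq_of_le_of_card_ge (le_sup_left (b := zpowers s)) he.ge]
    exact mem_sup_right (mem_zpowers s)
  have hc : 4 < Nat.card ↥(Subgroup.center ↥D) := by
    refine hlt.trans_le ?_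
    rw [← Nat.card_congr (subgroupOfEquivOfLe (sup_le hZD (zpowers_le.2 hsD))).toEquiv]
    exact Subgroup.card_le_of_le hle
  have hd : Nat.card ↥(Subgroup.center ↥D) ∣ 16 := hT.cent_card s hs ▸ card_subgroup_dvd_card _
  have hidx : (Subgroup.center ↥D).index ≤ 2 := by
    have h1 := (Subgroup.center ↥D).card_mul_index
    rw [hT.cent_card s hs] at h1
    obtain ⟨k, hk, hk'⟩ := (Nat.dvd_prime_pow Nat.prime_two).1 (show _ ∣ 2 ^ 4 from hd)
    have hk3 : 3 ≤ k := by
      by_contra h
      have := Nat.pow_le_pow_right (show 2 > 0 by norm_num) (show k ≤ 2 by omega)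
      rw [← hk'] at this
      omega
    have := Nat.pow_le_pow_right (show 2 > 0 by norm_num) hk3
    rw [← hk'] at this
    nlinarith
  haveI : IsCyclic (↥D ⧸ Subgroup.center ↥D) := by
    have h0 : 0 < (Subgroup.center ↥D).index := Nat.pos_of_ne_zero Subgroup.index_ne_zero_of_finite
    rw [Subgroup.index_eq_card] at hidx h0
    rcases (show Nat.card (↥D ⧸ Subgroup.center ↥D) = 1 ∨ Nat.card (↥D ⧸ Subgroup.center ↥D) = 2 by omega)
      with h | h
    · haveI := (Nat.card_eq_one_iff_unique.1 h).1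
      exact isCyclic_of_subsingleton
    · exact isCyclic_of_prime_card h
  exact ⟨⟨commutative_of_cyclic_center_quotient (QuotientGroup.mk' (Subgroup.center ↥D))
    (by rw [QuotientGroup.ker_mk'])⟩⟩

variable {σ : MulAut T} (hfix : ∀ z ∈ Subgroup.center T, σ z = z)

include hfix

/-- Fixing the coset of `s` an automorphism fixes all cosets in the centraliser of `s`. -/
theorem cent_fix {s : T} (hs : s ∉ Subgroup.center T) (hσ : s⁻¹ * σ s ∈ Subgroup.center T) {w : T}
    (hw : w * s = s * w) : w⁻¹ * σ w ∈ Subgroup.center T := by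
  obtain ⟨z, hσ, hσs⟩ : ∃ z ∈ Subgroup.center T, σ s = s * z := ⟨_, hσ, (mul_inv_cancel_left s (σ s)).symm⟩
  have hw' : σ w * s = s * σ w := by
    have h1 : σ w * σ s = σ s * σ w := by rw [← map_mul, ← map_mul, hw]
    rw [hσs] at h1
    refine mul_right_cancel (b := z) ?_
    rw [mul_assoc, h1, mul_assoc, mul_assoc, Subgroup.mem_center_iff.1 hσ (σ w)]
  haveI := cent_comm hT hs
  have hc : w * σ w = σ w * w := congrArg Subtype.val
    ((IsMulCommutative.is_comm (M := ↥(centralizer ({s} : Set T)))).comm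
      ⟨w, mem_centralizer_singleton_iff.2 hw⟩ ⟨σ w, mem_centralizer_singleton_iff.2 hw'⟩)
  refine comm_of_sq hT hc ?_
  rw [← map_mul, hfix _ (hT.sq_center w)]

/-- An automorphism fixing the centre and stabilising the series `1 < Z(T) < T` is trivial when of
odd order. -/
theorem eq_one_of_stab (hodd : Odd (orderOf σ)) (h : ∀ x : T, x⁻¹ * σ x ∈ Subgroup.center T) : σ = 1 := by
  refine MulEquiv.ext fun x => ?_
  show σ x = x
  set z := x⁻¹ * σ x with hz
  have hσ : σ x = x * z := by simp [hz]
  have hp : ∀ k : ℕ, (σ ^ k) x = x * z ^ k := by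
    intro k
    induction k with
    | zero => simp
    | succ k ih =>
      rw [pow_succ', MulAut.mul_apply, ih, map_mul, map_pow, hfix z (h x), hσ, mul_assoc, ← pow_succ']
  have h1 := hp (orderOf σ)
  rw [pow_orderOf_eq_one, MulAut.one_apply] at h1
  have hz1 : z ^ orderOf σ = 1 := mul_left_cancel (a := x) (by rw [mul_one]; exact h1.symm)
  have hz2 : z * z = 1 := (hT.inv_iff z).2 (h x)
  obtain ⟨m, hm⟩ := hodd
  rw [hm, pow_succ, pow_mul, pow_two, hz2, one_pow, one_mul] at hz1
  rw [hσ, hz1, mul_one]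

/-- An automorphism of odd order centralising the centre and fixing a noncentral coset is trivial. -/
theorem aut_eq_one (hodd : Odd (orderOf σ)) {s : T} (hs : s ∉ Subgroup.center T)
    (hσ : s⁻¹ * σ s ∈ Subgroup.center T) : σ = 1 := by
  refine eq_one_of_stab hT hfix hodd fun x => ?_
  have hσ0 := hσ
  obtain ⟨z, hσ, hσs⟩ : ∃ z ∈ Subgroup.center T, σ s = s * z := ⟨_, hσ, (mul_inv_cancel_left s (σ s)).symm⟩
  set y := x⁻¹ * σ x with hy
  have hσx : σ x = x * y := by simp [hy]
  -- `y` centralises `s`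
  have hys : y * s = s * y := by
    set k := s * x * s⁻¹ * x⁻¹ with hk
    have hkc : k ∈ Subgroup.center T := hT.commutator_mem s x
    have h1 : σ k = σ s * σ x * (σ s)⁻¹ * (σ x)⁻¹ := by rw [hk, map_mul, map_mul, map_mul, map_inv, map_inv]
    rw [hfix k hkc, hσs] at h1
    have h2 : s * z * σ x * (s * z)⁻¹ = s * σ x * s⁻¹ := by
      rw [mul_assoc s z, ← Subgroup.mem_center_iff.1 hσ (σ x), mul_inv_rev]
      group
    rw [h2] at h1
    have h3 : s * σ x * s⁻¹ = k * σ x := by rw [h1]; group
    have h4 : s * x * s⁻¹ = k * x := by rw [hk]; group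
    have h5 : s * y * s⁻¹ = y := by
      calc s * y * s⁻¹ = (s * x * s⁻¹)⁻¹ * (s * σ x * s⁻¹) := by rw [hy]; group
        _ = (k * x)⁻¹ * (k * σ x) := by rw [h4, h3]
        _ = y := by rw [hy]; group
    exact (mul_inv_eq_iff_eq_mul.1 h5).symm
  have hyfix := cent_fix hT hfix hs hσ0 hys
  set z' := y⁻¹ * σ y with hz'
  have hσy : σ y = y * z' := by simp [hz']
  have hp : ∀ k : ℕ, ∃ c ∈ Subgroup.center T, (σ ^ k) x = x * y ^ k * c := by
    intro k
    induction k with
    | zero => exact ⟨1, one_mem _, by simp⟩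
    | succ k ih =>
      obtain ⟨c, hc, he⟩ := ih
      refine ⟨z' ^ k * c, mul_mem (pow_mem hyfix k) hc, ?_⟩
      have hcomm : Commute y z' := Subgroup.mem_center_iff.1 hyfix y
      rw [pow_succ', MulAut.mul_apply, he, map_mul, map_mul, map_pow, hfix c hc, hσy, hσx, hcomm.mul_pow,
        pow_succ']
      group
  obtain ⟨c, hc, he⟩ := hp (orderOf σ)
  rw [pow_orderOf_eq_one, MulAut.one_apply] at he
  have hyn : y ^ orderOf σ ∈ Subgroup.center T := by
    have h1 : y ^ orderOf σ * c = 1 := mul_left_cancel (a := x) (by rw [← mul_assoc, mul_one]; exact he.symm)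
    rw [eq_inv_of_mul_eq_one_left h1]
    exact inv_mem hc
  obtain ⟨m, hm⟩ := hodd
  rw [hm, pow_succ, pow_mul, pow_two] at hyn
  exact (Subgroup.mul_mem_cancel_left _ (pow_mem (hT.sq_center y) m)).1 hyn

omit hT hfix in
/-- An automorphism of prime order without non-trivial fixed points. -/
theorem card_mod_eq_one {V : Type*} [Group V] [Finite V] {τ : MulAut V} {p : ℕ} [hp : Fact p.Prime]
    (hτ : τ ^ p = 1) (hne : τ ≠ 1) (h : ∀ v : V, τ v = v → v = 1) : Nat.card V ≡ 1 [MOD p] := by
  have hord : orderOf τ = p := orderOf_eq_prime hτ hne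
  have hP : IsPGroup p ↥(zpowers τ) := IsPGroup.of_card (n := 1) (by rw [Nat.card_zpowers, hord, pow_one])
  have h1 := hP.card_modEq_card_fixedPoints V
  have h2 : MulAction.fixedPoints (↥(zpowers τ)) V = {1} := by
    ext v
    rw [MulAction.mem_fixedPoints, Set.mem_singleton_iff]
    refine ⟨fun hv => h v (hv ⟨τ, mem_zpowers τ⟩), fun hv g => ?_⟩
    rw [hv]
    exact map_one (g : MulAut V)
  rw [h2, Nat.card_coe_set_eq, Set.ncard_singleton] at h1
  exact h1

end Cfsg.Agent.UFourSylow
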