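import Cfsg.Agent.Lib.Goldschmidt.ThreeInv.Statement
import Cfsg.Agent.Lib.Bender.Consumers
import Cfsg.Agent.Lib.Bender.RankOneHalf
import Cfsg.Agent.Lib.Goldschmidt.Facts.Unitary
import Cfsg.Agent.Lib.Goldschmidt.Facts.Suzuki
import Cfsg.Agent.Lib.BinaryPSL.Main
import Cfsg.Agent.Lib.Unitary.Small32

/-!
# Identification from a strongly embedded subgroup (owner: helper88)

* `psu_of_stronglyEmbedded` : a simple group with a strongly embedded subgroup and a non-abelian
  Sylow 2-subgroup with four elements squaring to one is `PSU 3 F 4`.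
-/

set_option autoImplicit false
set_option linter.style.haveILetI false

namespace Cfsg.Agent.UFourSylow

open Subgroup MulAction Cfsg.Agent.SuzukiRankOne

universe u

theorem upT_comm {F : Type*} [Field F] (b c : F) : PSL2.upT b * PSL2.upT c = PSL2.upT c * PSL2.upT b := by
  refine Subtype.ext ?_
  rw [Matrix.SpecialLinearGroup.coe_mul, Matrix.SpecialLinearGroup.coe_mul]
  ext i j
  fin_cases i <;> fin_cases j <;> simp [PSL2.upT, Matrix.mul_apply, Fin.sum_univ_two, add_comm]

/-- A simple group with a strongly embedded subgroup and a Sylow 2-subgroup that is non-abelian with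
exactly four elements squaring to one is `PSU 3 F 4`. -/
theorem psu_of_stronglyEmbedded {L : Type u} [Group L] [Finite L] [IsSimpleGroup L] {H : Subgroup L}
    (hH : Cfsg.IsStronglyEmbedded H) {S : Sylow 2 L} {A : Subgroup L} (hS : Goldschmidt.ThreeInv.Setting S A) :
    ∃ (F : Type) (_ : Field F) (_ : Fintype F), Fintype.card F = 16 ∧ Nonempty (L ≃* Cfsg.PSU 3 F 4) ∧
      Nat.card ↥(S : Subgroup L) = 4 ^ 3 := by
  have hcore := Bender.normalCore_of_simple hH
  have h2 := two_involutions_of_simple hH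
  obtain ⟨t, Q, h⟩ := Bender.rankOneHalf L H hH hcore h2
  haveI := Bender.faithful_of_normalCore hcore
  obtain ⟨N, hN, hodd, hc⟩ := classify kernelShape Suzuki.suzukiShape h h2
  obtain rfl : N = ⊤ := hN.eq_bot_or_eq_top.resolve_left fun e => by
    rw [e, Subgroup.index_bot] at hodd
    exact Nat.not_even_iff_odd.2 hodd (even_iff_two_dvd.2
      ((Involution.orderOf_of_sq h.mul_self h.ne_one) ▸ orderOf_dvd_natCard t))
  have key : ∀ q : ℕ, Goldschmidt.Facts.GroupFacts L q → q = 4 ∧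
      (Nat.card ↥(S : Subgroup L) = q ^ 2 ∨ Nat.card ↥(S : Subgroup L) = q ^ 3) := by
    intro q hq
    have hf := hq.sylow S
    refine ⟨?_, hf.card⟩
    have hc : (Subgroup.center ↥(S : Subgroup L)).map (S : Subgroup L).subtype = A := by
      refine le_antisymm ?_ fun a ha => ?_
      · rintro _ ⟨z, hz, rfl⟩
        exact (hS.mem z z.2).1 (congrArg Subtype.val ((hf.omega z).2 hz))
      · exact ⟨⟨a, hS.le ha⟩, (hf.omega _).1 (Subtype.ext ((hS.mem a (hS.le ha)).2 ha)), rfl⟩
    rw [← hf.card_center, ← hS.card, ← hc, Subgroup.card_map_of_injective (S : Subgroup L).subtype_injective]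
  rcases hc with ⟨F, _, _, ⟨n, hn, hF⟩, ⟨e⟩⟩ | ⟨F, _, _, m, hm, hF, ⟨e⟩⟩ | ⟨F, _, _, n, hn, hF, ⟨e⟩⟩
  · exfalso
    haveI : Fact (Nat.Prime 2) := ⟨Nat.prime_two⟩
    have h2F : CharP F 2 := by
      obtain ⟨p, hp⟩ := CharP.exists F
      haveI := hp
      haveI := Fact.mk ((CharP.char_is_prime_or_zero F p).resolve_right fun h0 => by
        subst h0
        exact (CharP.char_ne_zero_of_finite F 0) rfl)
      obtain ⟨k, hpp, hk⟩ := FiniteField.card F p
      rw [hF] at hk
      have : p ∣ 2 ^ n := hk ▸ dvd_pow_self p k.pos.ne'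
      rwa [(Nat.prime_dvd_prime_iff_eq hpp Nat.prime_two).1 (hpp.dvd_of_dvd_pow this)] at hp
    haveI := h2F
    let φ := Subgroup.topEquiv.symm.trans e
    obtain ⟨k, hk⟩ := BinaryPSL.trans_of_sylow (F := F) 2 rfl
      (S.mapSurjective (f := φ.toMonoidHom) φ.surjective)
    refine hS.nonab ⟨⟨fun x y => Subtype.ext (φ.injective ((MulAut.conj k).injective ?_))⟩⟩
    rw [Subgroup.coe_mul, Subgroup.coe_mul, map_mul, map_mul, map_mul, map_mul]
    obtain ⟨b, hb⟩ := (hk _).1 (mem_map_of_mem _ (mem_map_of_mem φ.toMonoidHom x.2))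
    obtain ⟨c, hc⟩ := (hk _).1 (mem_map_of_mem _ (mem_map_of_mem φ.toMonoidHom y.2))
    simp only [MulEquiv.coe_toMonoidHom] at hb hc
    rw [hb, hc, ← QuotientGroup.mk_mul, ← QuotientGroup.mk_mul, upT_comm]
  · exfalso
    obtain ⟨q, hq⟩ := Goldschmidt.ThreePrime.szFacts (L := L)
      ⟨F, _, _, m, hm, hF, ⟨Subgroup.topEquiv.symm.trans e⟩⟩
    obtain ⟨k, hk, rfl⟩ := hq.pow
    obtain ⟨hq4, -⟩ := key _ (Goldschmidt.Facts.groupFacts_of_szFacts hq)
    have : 2 ^ 3 ≤ 2 ^ (2 * k + 1) := Nat.pow_le_pow_right (by norm_num) (by omega)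
    omega
  · let φ := Subgroup.topEquiv.symm.trans e
    obtain ⟨hq4, hc⟩ := key _ (Goldschmidt.Facts.groupFacts_of_psu hn hF φ)
    have hn2 : n = 2 := Nat.pow_right_injective (le_refl 2) (hq4.trans (by norm_num))
    subst hn2
    refine ⟨F, _, _, hF.trans (by norm_num), ⟨φ⟩, ?_⟩
    have hd : 4 ^ 3 ∣ Nat.card L := by
      obtain ⟨P⟩ : Nonempty (Sylow 2 (Cfsg.PSU 3 F (2 ^ 2))) := inferInstance
      have h2' : (2 : F) = 0 := by
        have h0 : (2 : F) ^ 4 = 0 := by
          have := FiniteField.cast_card_eq_zero F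
          rw [hF] at this
          rw [← this]
          norm_num
        exact eq_zero_of_pow_eq_zero h0
      have hPc : Nat.card ↥(P : Subgroup (Cfsg.PSU 3 F (2 ^ 2))) = 4 ^ 3 := by
        obtain ⟨d⟩ := Unitary.exists_equiv (q := 2 ^ 2) (n := 2) (by norm_num) rfl hF h2' P
        rw [← Nat.card_congr d.toEquiv, Unitary.card_sylThree]
        all_goals norm_num
      rw [← hPc, Nat.card_congr φ.toEquiv]
      exact Subgroup.card_subgroup_dvd_card _
    rcases hc with hc | hc
    · exfalso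
      haveI : Fact (Nat.Prime 2) := ⟨Nat.prime_two⟩
      have h4 : (2 : ℕ) ^ 6 ∣ Nat.card ↥(S : Subgroup L) :=
        S.pow_dvd_card_of_pow_dvd_card (n := 6) (by norm_num at hd ⊢; exact hd)
      rw [hc, hq4] at h4
      norm_num at h4
    · rw [hc, hq4]

/-- The form over a given field with sixteen elements. -/
theorem nonempty_psu {L : Type u} [Group L] {K : Type} [Field K] [Fintype K] {F : Type*} [Field F] [Fintype F]
    (hK : Fintype.card K = 16) (hF : Fintype.card F = 16) (h : Nonempty (L ≃* Cfsg.PSU 3 K 4)) :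
    Nonempty (L ≃* Cfsg.PSU 3 F 4) :=
  ⟨h.some.trans (Unitary.psuMapEquiv (FiniteField.ringEquivOfCardEq (hK.trans hF.symm)) 3 4)⟩

end Cfsg.Agent.UFourSylow
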