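import Cfsg.Agent.Lib.UFourSylow.Central
import Cfsg.Agent.Lib.UFourSylow.Families
import Cfsg.Agent.Lib.ZStar.Apply
import Cfsg.Agent.Lib.ZStarPrimePower.Proved
import Cfsg.Agent.S0516

/-!
# Groups with a Sylow 2-subgroup of `PSU 3 F 4` type, given the three involution theorem (owner: helper88)

* `simple_of_threeInv` : the simple groups (S0486);
* `reduced_of_threeInv` : the reduced groups (S3176).
-/

set_option autoImplicit false
set_option linter.style.haveILetI false
set_option linter.unusedSectionVars false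

namespace Cfsg.Agent.UFourSylow

open Subgroup

universe u w

variable {G : Type u} [Group G] [Finite G]

/-- The simple groups with such a Sylow 2-subgroup. -/
theorem simple_of_threeInv (hTI : Goldschmidt.ThreeInv.ThreeInvTarget.{u}) [IsSimpleGroup G]
    {F : Type w} [Field F] [Fintype F] (hF : Fintype.card F = 16) (S : Sylow 2 G)
    (hT : USylow ↥(S : Subgroup G)) : Nonempty (G ≃* Cfsg.PSU 3 F 4) := by
  obtain ⟨H, hH⟩ := hTI G S (omegaOne S) (setting hT)
  obtain ⟨K, _, _, hK, he, -⟩ := psu_of_stronglyEmbedded hH (setting hT)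
  exact nonempty_psu hK hF he

variable {S : Sylow 2 G} (hT : USylow ↥(S : Subgroup G)) (hO : Cfsg.oddCore G = ⊥)
  (hO' : ∀ N : Subgroup G, N.Normal → Odd N.index → N = ⊤)
include hT hO

/-- An element of `Z(S)` isolated in `S` is central. -/
theorem mem_center_of_fixed {a : G} (ha : a ∈ omegaOne S) (ha1 : a ≠ 1)
    (h : ∀ b ∈ omegaOne S, ∀ g : G, g * a * g⁻¹ = b → b = a) : a ∈ Subgroup.center G := by
  haveI : Fact (Nat.Prime 2) := ⟨Nat.prime_two⟩
  have hao : orderOf a = 2 := Involution.orderOf_of_sq ((sq_eq_one_iff hT (omegaOne_le S ha)).2 ha) ha1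
  refine ZStar.isolated_mem_center ZStarPrimePower.uniqueInvolutionZStar_proved ⟨hao, fun g hg => ?_⟩ hO
  set b := g * a * g⁻¹ with hb
  have hbo : orderOf b = 2 := by rw [hb, Involution.orderOf_conj]; exact hao
  set C := centralizer ({a} : Set G)
  have hbC : b ∈ C := mem_centralizer_singleton_iff.2 hg.symm.eq
  have hSC : (S : Subgroup G) ≤ C := fun s hs => mem_centralizer_singleton_iff.2
    ((mem_centralizer_iff.1 (le_centralizer_omegaOne hT hs)) a ha).symm
  obtain ⟨c, hc⟩ := Involution.exists_conj_mem_sylow (S.subtype hSC)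
    (t := (⟨b, hbC⟩ : C)) (by rw [Subgroup.orderOf_mk]; exact hbo)
  set c' : G := (c : G)
  have hcb : c' * b * c'⁻¹ ∈ (S : Subgroup G) := mem_subgroupOf.1 hc
  have hcbA : c' * b * c'⁻¹ ∈ omegaOne S := by
    refine (sq_eq_one_iff hT hcb).1 (Involution.mul_self ?_)
    rw [Involution.orderOf_conj]
    exact hbo
  have h1 := h _ hcbA (c' * g) (by rw [hb]; group)
  have hca : c' * a = a * c' := mem_centralizer_singleton_iff.1 c.2
  calc b = c'⁻¹ * (c' * b * c'⁻¹) * c' := by group
    _ = c'⁻¹ * a * c' := by rw [h1]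
    _ = a := by rw [mul_assoc, ← hca, inv_mul_cancel_left]

/-- If some involution of `Z(S)` is central then all are. -/
theorem omegaOne_le_center {z : G} (hz : z ∈ omegaOne S) (hz1 : z ≠ 1) (hzc : z ∈ Subgroup.center G) :
    omegaOne S ≤ Subgroup.center G := by
  classical
  haveI : Fact (Nat.Prime 2) := ⟨Nat.prime_two⟩
  intro a ha
  by_cases ha1 : a = 1
  · rw [ha1]; exact one_mem _
  by_cases haz : a = z
  · rw [haz]; exact hzc
  refine mem_center_of_fixed hT hO ha ha1 fun b hb g hg => ?_
  have hcen : ∀ x ∈ omegaOne S, x ∈ centralizer ((S : Subgroup G) : Set G) := fun x hx =>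
    mem_centralizer_iff.2 fun s hs => (mem_centralizer_iff.1 (le_centralizer_omegaOne hT hs) x hx).symm
  obtain ⟨n, hn, he⟩ := S.conj_eq_normalizer_conj_of_mem_centralizer a g⁻¹ (hcen a ha)
    (by rw [inv_inv, hg]; exact hcen b hb)
  rw [inv_inv, hg] at he
  -- `k` induces a permutation of `Z(S)` of odd order fixing `1` and `z`
  set k := n⁻¹ with hk
  have hkN : k ∈ normalizer ((S : Subgroup G) : Set G) := inv_mem hn
  have hkb : k * a * k⁻¹ = b := by rw [he, hk, inv_inv]
  have hkA : ∀ x ∈ omegaOne S, k * x * k⁻¹ ∈ omegaOne S := fun x hx => by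
    have hxS := (mem_normalizer_iff.1 hkN x).1 (omegaOne_le S hx)
    refine (sq_eq_one_iff hT hxS).1 ?_
    rw [show k * x * k⁻¹ * (k * x * k⁻¹) = k * (x * x) * k⁻¹ by group,
      (sq_eq_one_iff hT (omegaOne_le S hx)).2 hx, mul_one, mul_inv_cancel]
  by_contra hba
  have hb1 : b ≠ 1 := fun e => ha1 (by
    rw [e, mul_inv_eq_one] at hkb
    exact mul_left_cancel (hkb.trans (mul_one k).symm))
  have hbz : b ≠ z := fun e => haz (by
    rw [e] at hkb
    calc a = k⁻¹ * (k * a * k⁻¹) * k := by group
      _ = k⁻¹ * z * k := by rw [hkb]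
      _ = z := by rw [mul_assoc, ← Subgroup.mem_center_iff.1 hzc k, inv_mul_cancel_left])
  -- `k b k⁻¹ = a`
  have hk2 : k * b * k⁻¹ = a := by
    haveI := Fintype.ofFinite ↥(omegaOne S)
    have hcard : (Finset.univ : Finset ↥(omegaOne S)).card = 4 := by
      rw [Finset.card_univ, ← Nat.card_eq_fintype_card]; exact card_omegaOne hT
    set u : ↥(omegaOne S) := ⟨k * b * k⁻¹, hkA b hb⟩ with hu
    have hall : ({1, ⟨z, hz⟩, ⟨a, ha⟩, ⟨b, hb⟩} : Finset ↥(omegaOne S)) = Finset.univ := by
      refine Finset.eq_of_subset_of_card_le (Finset.subset_univ _) (le_of_eq ?_)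
      rw [hcard, Finset.card_insert_of_notMem, Finset.card_insert_of_notMem, Finset.card_insert_of_notMem,
        Finset.card_singleton]
      · simp [Subtype.ext_iff, Ne.symm hba]
      · simp [Subtype.ext_iff, Ne.symm haz, Ne.symm hbz]
      · simp [Subtype.ext_iff, Ne.symm hz1, Ne.symm ha1, Ne.symm hb1]
    have hmem : u ∈ ({1, ⟨z, hz⟩, ⟨a, ha⟩, ⟨b, hb⟩} : Finset ↥(omegaOne S)) := hall ▸ Finset.mem_univ u
    simp only [Finset.mem_insert, Finset.mem_singleton] at hmem
    rcases hmem with e | e | e | e <;> have e' := congrArg Subtype.val e <;>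
      simp only [hu, Subgroup.coe_one] at e'
    · exact absurd (mul_left_cancel ((mul_inv_eq_one.1 e').trans (mul_one k).symm)) hb1
    · exfalso
      refine hbz ?_
      calc b = k⁻¹ * (k * b * k⁻¹) * k := by group
        _ = k⁻¹ * z * k := by rw [e']
        _ = z := by rw [mul_assoc, ← Subgroup.mem_center_iff.1 hzc k, inv_mul_cancel_left]
    · exact e'
    · exfalso
      refine hba ?_
      calc b = k⁻¹ * (k * b * k⁻¹) * k := by group
        _ = k⁻¹ * b * k := by rw [e']
        _ = k⁻¹ * (k * a * k⁻¹) * k := by rw [hkb]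
        _ = a := by group
  have hit : ∀ j : ℕ, k ^ (2 * j + 1) * a * (k ^ (2 * j + 1))⁻¹ = b := by
    intro j
    induction j with
    | zero => simpa using hkb
    | succ j ih =>
      calc k ^ (2 * (j + 1) + 1) * a * (k ^ (2 * (j + 1) + 1))⁻¹
          = k * (k * (k ^ (2 * j + 1) * a * (k ^ (2 * j + 1))⁻¹) * k⁻¹) * k⁻¹ := by
            rw [show 2 * (j + 1) + 1 = (2 * j + 1) + 1 + 1 by ring, pow_succ', pow_succ']
            group
        _ = b := by rw [ih, hk2, hkb]
  obtain ⟨m, ⟨j, hj⟩, hmS⟩ := exists_pow_mem hkN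
  have h2 := mem_centralizer_iff.1 (le_centralizer_omegaOne hT hmS) a ha
  have h3 := hit j
  rw [← hj, ← h2, mul_inv_cancel_right] at h3
  exact hba h3.symm

include hO'

/-- The reduced groups with such a Sylow 2-subgroup. -/
theorem reduced_of_threeInv (hTI : Goldschmidt.ThreeInv.ThreeInvTarget.{u})
    {F : Type w} [Field F] [Fintype F] (hF : Fintype.card F = 16)
    (P : Sylow 2 (Cfsg.PSU 3 F 4)) :
    Nonempty (G ≃* Cfsg.PSU 3 F 4) ∨ (S : Subgroup G) = ⊤ := by
  haveI : Fact (Nat.Prime 2) := ⟨Nat.prime_two⟩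
  by_cases hc : ∃ z ∈ omegaOne S, z ≠ 1 ∧ z ∈ Subgroup.center G
  · obtain ⟨z, hz, hz1, hzc⟩ := hc
    exact Or.inr (sylow_eq_top_of_central hT (omegaOne_le_center hT hO hz hz1 hzc) hO hO')
  push Not at hc
  have hnoc : ¬ omegaOne S ≤ Subgroup.center G := fun h => by
    obtain ⟨⟨x, hx⟩, hx1⟩ : ∃ x : ↥(omegaOne S), x ≠ 1 := by
      haveI : Nontrivial ↥(omegaOne S) := Finite.one_lt_card_iff_nontrivial.1 (by rw [card_omegaOne hT]; norm_num)
      exact exists_ne 1
    exact hc x hx (fun e => hx1 (Subtype.ext e)) (h hx)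
  have heven : ∀ N : Subgroup G, N.Normal → N ≠ ⊥ → ∃ x ∈ omegaOne S, x ≠ 1 ∧ x ∈ N := by
    intro N hN hne
    have h2 : 2 ∣ Nat.card N := by
      by_contra h
      refine hne (le_bot_iff.1 ((Cores.le_pPrimeCore (p := 2) hN ?_).trans (show Cfsg.oddCore G = ⊥ from hO).le))
      rwa [Nat.coprime_comm, Nat.prime_two.coprime_iff_not_dvd]
    obtain ⟨⟨t, htN⟩, ht⟩ := exists_prime_orderOf_dvd_card' 2 h2
    rw [Subgroup.orderOf_mk] at ht
    obtain ⟨g, hg⟩ := Involution.exists_conj_mem_sylow S ht
    refine ⟨_, (sq_eq_one_iff hT hg).1 (Involution.mul_self (by rw [Involution.orderOf_conj]; exact ht)), ?_,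
      hN.conj_mem t htN g⟩
    exact Involution.ne_one (by rw [Involution.orderOf_conj]; exact ht)
  have hAle : ∀ N : Subgroup G, N.Normal → N ≠ ⊥ → omegaOne S ≤ N := by
    intro N hN hne
    obtain ⟨a, ha, ha1, haN⟩ := heven N hN hne
    by_contra hle
    refine hc a ha ha1 (mem_center_of_fixed hT hO ha ha1 fun b hb g hg => ?_)
    have hbN : b ∈ N := hg ▸ hN.conj_mem a haN g
    have hb1 : b ≠ 1 := fun e => ha1 (conj_eq_one_iff.1 (hg.trans e))
    by_contra hba
    -- two involutions generate `Z(S)`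
    refine hle fun x hx => ?_
    have hI : N ⊓ omegaOne S = omegaOne S := by
      refine Subgroup.eq_of_le_of_card_ge inf_le_right ?_
      rw [card_omegaOne hT]
      have hsub : ({1, a, b} : Set G) ⊆ ((N ⊓ omegaOne S : Subgroup G) : Set G) := by
        rintro x (rfl | rfl | rfl)
        exacts [one_mem _, ⟨haN, ha⟩, ⟨hbN, hb⟩]
      have h3 := Set.ncard_le_ncard hsub (Set.toFinite _)
      have h3' : ({1, a, b} : Set G).ncard = 3 := Set.ncard_eq_three.2
        ⟨1, a, b, Ne.symm ha1, Ne.symm hb1, Ne.symm hba, rfl⟩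
      rw [h3', ← Nat.card_coe_set_eq, SetLike.coe_sort_coe] at h3
      have hd : Nat.card ↥(N ⊓ omegaOne S : Subgroup G) ∣ 4 :=
        card_omegaOne hT ▸ Subgroup.card_dvd_of_le inf_le_right
      have := Nat.le_of_dvd (by norm_num) hd
      interval_cases (Nat.card ↥(N ⊓ omegaOne S : Subgroup G)) <;> omega
    rw [← hI] at hx
    exact hx.1
  -- a minimal normal subgroup
  obtain ⟨M, ⟨hMn, hM0⟩, hMmin⟩ := (Set.toFinite {N : Subgroup G | N.Normal ∧ N ≠ ⊥}).exists_minimal
    ⟨⊤, inferInstance, fun e => by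
      have h := hT.shape.card
      rw [Subgroup.eq_bot_iff_forall] at e
      have h1 : (S : Subgroup G) = ⊥ := (Subgroup.eq_bot_iff_forall _).2 fun x _ => e x (mem_top x)
      rw [h1, Subgroup.card_bot] at h
      norm_num at h⟩
  have hmin : ∀ N : Subgroup G, N.Normal → N ≠ ⊥ → N ≤ M → N = M := fun N hN h0 hle =>
    le_antisymm hle (hMmin ⟨hN, h0⟩ hle)
  haveI := hMn
  have hAM : omegaOne S ≤ M := hAle M hMn hM0
  have hCM : centralizer (M : Set G) = ⊥ := by
    by_contra hne
    have hAC := hAle _ inferInstance hne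
    -- then `Z(S)` would be normal in `G`
    have hAZ : omegaOne S ≤ M ⊓ centralizer (M : Set G) := le_inf hAM hAC
    have hN0 : M ⊓ centralizer (M : Set G) ≠ ⊥ := fun e => by
      have := Subgroup.card_le_of_le (e ▸ hAZ)
      rw [card_omegaOne hT, Subgroup.card_bot] at this
      omega
    have hMab : M ≤ centralizer (M : Set G) := inf_eq_left.1 (hmin _ inferInstance hN0 inf_le_left)
    let I : Subgroup G :=
      { carrier := {x | x ∈ M ∧ x * x = 1}
        one_mem' := ⟨one_mem M, one_mul 1⟩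
        mul_mem' := by
          rintro x y ⟨hx, hx2⟩ ⟨hy, hy2⟩
          refine ⟨M.mul_mem hx hy, ?_⟩
          calc x * y * (x * y) = x * (y * x) * y := by group
            _ = x * (x * y) * y := by rw [mem_centralizer_iff.1 (hMab hx) y hy]
            _ = 1 := by rw [← mul_assoc x x y, hx2, one_mul, hy2]
        inv_mem' := by
          rintro x ⟨hx, hx2⟩
          exact ⟨M.inv_mem hx, by rw [inv_eq_of_mul_eq_one_right hx2]; exact hx2⟩ }
    have hI : I.Normal := ⟨fun x hx g => ⟨hMn.conj_mem x hx.1 g, by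
      rw [show g * x * g⁻¹ * (g * x * g⁻¹) = g * (x * x) * g⁻¹ by group, hx.2, mul_one, mul_inv_cancel]⟩⟩
    have hAI : omegaOne S ≤ I := fun x hx => ⟨hAM hx, (sq_eq_one_iff hT (omegaOne_le S hx)).2 hx⟩
    have hI0 : I ≠ ⊥ := fun e => by
      have := Subgroup.card_le_of_le (e ▸ hAI)
      rw [card_omegaOne hT, Subgroup.card_bot] at this
      omega
    have hIM : I = M := hmin I hI hI0 fun x hx => hx.1
    have hMp : IsPGroup 2 M := fun x => ⟨1, Subtype.ext (by
      have := (hIM.ge x.2).2
      rw [pow_one, pow_two]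
      exact this)⟩
    obtain ⟨R, hR⟩ := hMp.exists_le_sylow
    have hMS : M ≤ (S : Subgroup G) := fun x hx => by
      obtain ⟨g, rfl⟩ := MulAction.exists_smul_eq G S R
      obtain ⟨y, hy, hyx⟩ := hR (hMn.conj_mem x hx g)
      have hyx' : g * y * g⁻¹ = g * x * g⁻¹ := hyx
      rwa [← mul_left_cancel (mul_right_cancel hyx')]
    have hMA : M = omegaOne S := le_antisymm
      (fun x hx => (sq_eq_one_iff hT (hMS hx)).1 (hIM.ge hx).2) hAM
    haveI : (omegaOne S).Normal := hMA ▸ hMn
    refine hnoc fun a ha => Subgroup.mem_center_iff.2 fun g => ?_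
    have htop : centralizer (omegaOne S : Set G) = ⊤ := by
      refine hO' _ inferInstance (Nat.not_even_iff_odd.1 fun he => S.not_dvd_index ?_)
      exact (even_iff_two_dvd.1 he).trans (Subgroup.index_dvd_of_le (le_centralizer_omegaOne hT))
    exact (mem_centralizer_iff.1 (htop ▸ mem_top g) a ha).symm
  haveI : Nontrivial M := (Subgroup.nontrivial_iff_ne_bot M).2 hM0
  have hMO : Cfsg.pPrimeCore 2 M = ⊥ := by
    have h := Cores.pPrimeCore_map_subtype (p := 2) M
    rw [show Cfsg.pPrimeCore 2 G = ⊥ from hO, bot_inf_eq] at h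
    exact (Subgroup.map_eq_bot_iff_of_injective _ M.subtype_injective).1 h
  obtain ⟨Q, hQ⟩ := Cores.sylow_inf_isSubnormal S hMn.isSubnormal
  haveI hMs : IsSimpleGroup M := by
    refine ⟨fun K hK => ?_⟩
    by_cases hK0 : K = ⊥
    · exact Or.inl hK0
    right
    -- the conjugates of `K` all contain `Z(S)`
    have hAK : ∀ L : Subgroup M, L.Normal → L ≠ ⊥ → omegaOne S ≤ L.map M.subtype := by
      intro L hL hL0
      haveI := hL
      have h2 : 2 ∣ Nat.card L := by
        by_contra h
        refine hL0 (le_bot_iff.1 ((Cores.le_pPrimeCore (p := 2) hL ?_).trans hMO.le))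
        rwa [Nat.coprime_comm, Nat.prime_two.coprime_iff_not_dvd]
      obtain ⟨⟨t, htL⟩, ht⟩ := exists_prime_orderOf_dvd_card' 2 h2
      rw [Subgroup.orderOf_mk] at ht
      obtain ⟨g, hg⟩ := Involution.exists_conj_mem_sylow Q ht
      set t' := g * t * g⁻¹
      have ht'L : t' ∈ L := hL.conj_mem t htL g
      have ht'o : orderOf t' = 2 := by rw [Involution.orderOf_conj]; exact ht
      have ht'S : (t' : G) ∈ (S : Subgroup G) := mem_subgroupOf.1 (hQ ▸ hg)
      have ht'A : (t' : G) ∈ omegaOne S := (sq_eq_one_iff hT ht'S).1 (congrArg Subtype.val (Involution.mul_self ht'o))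
      by_contra hle
      -- `L ∩ Z(S)` has order two
      have honly : ∀ y ∈ L, y ≠ 1 → (y : G) ∈ omegaOne S → y = t' := by
        intro y hy hy1 hyA
        by_contra hne
        refine hle ?_
        have hsub : ({1, (t' : G), (y : G)} : Set G) ⊆ ((L.map M.subtype ⊓ omegaOne S : Subgroup G) : Set G) := by
          rintro x (rfl | rfl | rfl)
          exacts [one_mem _, ⟨mem_map_of_mem _ ht'L, ht'A⟩, ⟨mem_map_of_mem _ hy, hyA⟩]
        have h3' : ({1, (t' : G), (y : G)} : Set G).ncard = 3 := Set.ncard_eq_three.2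
          ⟨1, t', y, fun e => Involution.ne_one ht'o (Subtype.ext e.symm), fun e => hy1 (Subtype.ext e.symm),
            fun e => hne (Subtype.ext e.symm), rfl⟩
        have h3 := Set.ncard_le_ncard hsub (Set.toFinite _)
        rw [h3', ← Nat.card_coe_set_eq, SetLike.coe_sort_coe] at h3
        have hd : Nat.card ↥(L.map M.subtype ⊓ omegaOne S : Subgroup G) ∣ 4 :=
          card_omegaOne hT ▸ Subgroup.card_dvd_of_le inf_le_right
        have h4 := Nat.le_of_dvd (by norm_num) hd
        have he : L.map M.subtype ⊓ omegaOne S = omegaOne S := by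
          refine Subgroup.eq_of_le_of_card_ge inf_le_right ?_
          rw [card_omegaOne hT]
          interval_cases (Nat.card ↥(L.map M.subtype ⊓ omegaOne S : Subgroup G)) <;> omega
        exact inf_eq_right.1 he
      -- so it is isolated in `L`, hence central there
      have hLO : Cfsg.pPrimeCore 2 L = ⊥ := by
        have h := Cores.pPrimeCore_map_subtype (p := 2) L
        rw [hMO, bot_inf_eq] at h
        exact (Subgroup.map_eq_bot_iff_of_injective _ L.subtype_injective).1 h
      obtain ⟨R, hR⟩ := Cores.sylow_inf_isSubnormal Q hL.isSubnormal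
      have hiso : Cfsg.IsIsolatedInvolution (⟨t', ht'L⟩ : L) := by
        refine ⟨by rw [Subgroup.orderOf_mk]; exact ht'o, fun x hx => ?_⟩
        set u := x * (⟨t', ht'L⟩ : L) * x⁻¹ with hu
        have huo : orderOf u = 2 := by rw [hu, Involution.orderOf_conj, Subgroup.orderOf_mk]; exact ht'o
        set D := centralizer ({(⟨t', ht'L⟩ : L)} : Set L)
        have hRD : (R : Subgroup L) ≤ D := fun y hy => by
          have hyS : ((y : M) : G) ∈ (S : Subgroup G) := mem_subgroupOf.1 (hQ ▸ mem_subgroupOf.1 (hR ▸ hy))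
          refine mem_centralizer_singleton_iff.2 (Subtype.ext (Subtype.ext ?_))
          exact (mem_centralizer_iff.1 (le_centralizer_omegaOne hT hyS) _ ht'A).symm
        have huD : u ∈ D := mem_centralizer_singleton_iff.2 hx.symm.eq
        obtain ⟨c, hc'⟩ := Involution.exists_conj_mem_sylow (R.subtype hRD) (t := (⟨u, huD⟩ : D))
          (by rw [Subgroup.orderOf_mk]; exact huo)
        have hcR : (c : L) * u * (c : L)⁻¹ ∈ (R : Subgroup L) := mem_subgroupOf.1 hc'
        set w := (c : L) * u * (c : L)⁻¹ with hw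
        have hwo : orderOf w = 2 := by rw [hw, Involution.orderOf_conj]; exact huo
        have hwS : ((w : M) : G) ∈ (S : Subgroup G) :=
          mem_subgroupOf.1 (hQ ▸ mem_subgroupOf.1 (hR ▸ hcR))
        have hwA : ((w : M) : G) ∈ omegaOne S := (sq_eq_one_iff hT hwS).1 (congrArg (fun y : L => ((y : M) : G))
          (Involution.mul_self hwo))
        have hwt : w = ⟨t', ht'L⟩ := Subtype.ext (honly w w.2 (fun e => Involution.ne_one hwo (Subtype.ext e)) hwA)
        have hct : (c : L) * ⟨t', ht'L⟩ = ⟨t', ht'L⟩ * (c : L) := mem_centralizer_singleton_iff.1 c.2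
        calc u = (c : L)⁻¹ * w * c := by rw [hw]; group
          _ = (c : L)⁻¹ * ⟨t', ht'L⟩ * c := by rw [hwt]
          _ = ⟨t', ht'L⟩ := by rw [mul_assoc, ← hct, inv_mul_cancel_left]
      have hcen := ZStar.isolated_mem_center ZStarPrimePower.uniqueInvolutionZStar_proved hiso hLO
      -- so `t'` is central in `M`
      have hnorm : ∀ y : M, y * t' * y⁻¹ = t' := by
        intro y
        have hyL : y * t' * y⁻¹ ∈ L := hL.conj_mem t' ht'L y
        -- conjugates of a central involution of `L` are central in `L`, so lie in `R`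
        have hyc : (⟨y * t' * y⁻¹, hyL⟩ : L) ∈ Subgroup.center L := by
          refine Subgroup.mem_center_iff.2 fun v => Subtype.ext ?_
          have hv : y⁻¹ * (v : M) * y ∈ L := by
            have := hL.conj_mem (v : M) v.2 y⁻¹
            rwa [inv_inv] at this
          have := congrArg Subtype.val (Subgroup.mem_center_iff.1 hcen ⟨_, hv⟩)
          show (v : M) * (y * t' * y⁻¹) = y * t' * y⁻¹ * v
          have e1 : y⁻¹ * (v : M) * y * t' = t' * (y⁻¹ * v * y) := this
          calc (v : M) * (y * t' * y⁻¹) = y * (y⁻¹ * v * y * t') * y⁻¹ := by group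
            _ = y * (t' * (y⁻¹ * v * y)) * y⁻¹ := by rw [e1]
            _ = _ := by group
        set v : L := ⟨y * t' * y⁻¹, hyL⟩
        have hvo : orderOf v = 2 := by rw [Subgroup.orderOf_mk, Involution.orderOf_conj]; exact ht'o
        obtain ⟨d, hd⟩ := Involution.exists_conj_mem_sylow R hvo
        rw [Subgroup.mem_center_iff.1 hyc d, mul_inv_cancel_right] at hd
        have hvS : ((v : M) : G) ∈ (S : Subgroup G) := mem_subgroupOf.1 (hQ ▸ mem_subgroupOf.1 (hR ▸ hd))
        exact honly (y * t' * y⁻¹) hyL (fun e => Involution.ne_one hvo (Subtype.ext e))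
          ((sq_eq_one_iff hT hvS).1 (congrArg (fun y : L => ((y : M) : G)) (Involution.mul_self hvo)))
      have ht'Z : t' ∈ Subgroup.center M := Subgroup.mem_center_iff.2 fun y => mul_inv_eq_iff_eq_mul.1 (hnorm y)
      -- the centre of `M` is trivial
      refine Involution.ne_one ht'o (Subtype.ext (Subgroup.mem_bot.1 (hCM ▸ ?_ : (t' : G) ∈ (⊥ : Subgroup G))))
      refine mem_centralizer_iff.2 fun v hv => ?_
      exact congrArg Subtype.val (Subgroup.mem_center_iff.1 ht'Z ⟨v, hv⟩)
    set J : Subgroup G := ⨅ g : G, (K.map M.subtype).map (MulAut.conj g).toMonoidHom with hJ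
    have hAJ : omegaOne S ≤ J := le_iInf fun g => by
      haveI : (K.map (MulAut.conjNormal g : MulAut M).toMonoidHom).Normal :=
        hK.map _ (MulAut.conjNormal g : MulAut M).surjective
      have h1 := hAK (K.map (MulAut.conjNormal g : MulAut M).toMonoidHom) inferInstance
        (fun e => hK0 ((Subgroup.map_eq_bot_iff_of_injective _ (MulAut.conjNormal g : MulAut M).injective).1 e))
      refine h1.trans (le_of_eq ?_)
      rw [Subgroup.map_map, Subgroup.map_map]
      rfl
    have hJn : J.Normal := ⟨fun x hx g => by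
      refine Subgroup.mem_iInf.2 fun h => ?_
      obtain ⟨y, hy, hyx⟩ := Subgroup.mem_iInf.1 hx (g⁻¹ * h)
      refine ⟨y, hy, ?_⟩
      have hyx' : g⁻¹ * h * y * (g⁻¹ * h)⁻¹ = x := hyx
      show h * y * h⁻¹ = g * x * g⁻¹
      rw [← hyx']
      group⟩
    have hJK : J ≤ K.map M.subtype := by
      refine (iInf_le _ 1).trans (le_of_eq ?_)
      rw [map_one]
      exact Subgroup.map_id _
    have hJ0 : J ≠ ⊥ := fun e => by
      have := Subgroup.card_le_of_le (e ▸ hAJ)
      rw [card_omegaOne hT, Subgroup.card_bot] at this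
      omega
    have hJM : J = M := hmin J hJn hJ0 (hJK.trans (Subgroup.map_subtype_le K))
    refine eq_top_iff.2 fun y _ => ?_
    have hyJ : (y : G) ∈ J := by rw [hJM]; exact y.2
    obtain ⟨y', hy', he⟩ := hJK hyJ
    rwa [← M.subtype_injective he]
  set A' := (omegaOne S).subgroupOf M with hA'
  have hQmem : ∀ x : M, x ∈ (Q : Subgroup M) ↔ (x : G) ∈ (S : Subgroup G) := fun x => by
    rw [hQ, mem_subgroupOf]
  have hA'c : Nat.card ↥A' = 4 := by
    rw [hA', Nat.card_congr (subgroupOfEquivOfLe hAM).toEquiv, card_omegaOne hT]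
  have hmem' : ∀ x ∈ (Q : Subgroup M), x * x = 1 ↔ x ∈ A' := fun x hx => by
    rw [hA', mem_subgroupOf, ← sq_eq_one_iff hT ((hQmem x).1 hx), Subtype.ext_iff]
    rfl
  by_cases hQab : IsMulCommutative ↥(Q : Subgroup M)
  · exfalso
    have hMnc : ¬ IsMulCommutative M := fun h => by
      have hle : M ≤ centralizer (M : Set G) := fun x hx => mem_centralizer_iff.2 fun y hy =>
        congrArg Subtype.val (h.is_comm.comm (⟨y, hy⟩ : M) ⟨x, hx⟩)
      rw [hCM] at hle
      exact hM0 (le_bot_iff.1 hle)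
    have hrank : Cfsg.PRankLE 2 2 M := by
      intro E hE hexp
      have hEp : IsPGroup 2 E := fun x => ⟨1, Subtype.ext (by rw [pow_one]; exact hexp x x.2)⟩
      obtain ⟨R, hR⟩ := hEp.exists_le_sylow
      obtain ⟨g, rfl⟩ := MulAction.exists_smul_eq M Q R
      have hle : E ≤ A'.map (MulAut.conj g).toMonoidHom := fun x hx => by
        obtain ⟨y, hy, hyx⟩ := hR hx
        have hyx' : g * y * g⁻¹ = x := hyx
        refine ⟨y, (hmem' y hy).1 ?_, hyx'⟩
        have h1 : x * x = 1 := by rw [← pow_two]; exact hexp x hx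
        rw [← hyx', show g * y * g⁻¹ * (g * y * g⁻¹) = g * (y * y) * g⁻¹ by group, conj_eq_one_iff] at h1
        exact h1
      refine (Subgroup.card_le_of_le hle).trans (le_of_eq ?_)
      rw [Subgroup.card_map_of_injective (MulAut.conj g).injective, hA'c]
      norm_num
    have hQ4 : Nat.card ↥(Q : Subgroup M) = 4 := by
      rcases S0516.result hMnc hrank Q hF P with ⟨n, hn, ⟨e⟩⟩ | hq | hw | ⟨⟨e⟩⟩
      · have hn2 : n = 2 := by
          have h := hQab.is_comm.comm (e.symm (DihedralGroup.r 1)) (e.symm (DihedralGroup.sr 0))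
          rw [← map_mul, ← map_mul, e.symm.injective.eq_iff, DihedralGroup.r_mul_sr, DihedralGroup.sr_mul_r,
            DihedralGroup.sr.injEq] at h
          have h2 : ((2 : ℕ) : ZMod n) = 0 := by
            push_cast
            linear_combination -h
          have := Nat.le_of_dvd two_pos ((ZMod.natCast_eq_zero_iff _ _).1 h2)
          omega
        subst hn2
        rw [Nat.card_congr e.toEquiv, DihedralGroup.nat_card]
      · exfalso
        obtain ⟨n, hn, -, x, y, hx, -, hxy⟩ := hq
        rw [hQab.is_comm.comm y x, mul_inv_cancel_right] at hxy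
        have h4 : 4 ≤ 2 ^ (n - 1) :=
          le_trans (by norm_num) (Nat.pow_le_pow_right (by norm_num) (show 2 ≤ n - 1 by omega))
        have h5 : 2 ^ n = 2 * 2 ^ (n - 1) := by rw [← pow_succ', Nat.sub_add_cancel (by omega : 1 ≤ n)]
        have h1 : x ^ (2 ^ (n - 1) - 2) = 1 := by
          have := hxy.symm
          rw [show 2 ^ (n - 1) - 1 = (2 ^ (n - 1) - 2) + 1 by omega, pow_succ] at this
          exact mul_eq_right.1 this
        have := Nat.le_of_dvd (by omega) (hx ▸ orderOf_dvd_of_pow_eq_one h1)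
        omega
      · exfalso
        obtain ⟨n, hn, -, x, y, z, hx, -, hd, -, hzx⟩ := hw
        rw [hQab.is_comm.comm z x, mul_inv_cancel_right] at hzx
        rw [← hzx, inf_idem, Subgroup.zpowers_eq_bot] at hd
        rw [hd, orderOf_one] at hx
        have := Nat.one_lt_two_pow (show n ≠ 0 by omega)
        omega
      · exfalso
        have hP := (usylow_psu hF P).congr e.symm
        have h := hP.shape.center_card
        rw [show Subgroup.center ↥(Q : Subgroup M) = ⊤ from eq_top_iff.2 fun x _ =>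
          Subgroup.mem_center_iff.2 fun y => hQab.is_comm.comm y x, Subgroup.card_top, hP.shape.card] at h
        omega
    have hQA : A' = (Q : Subgroup M) := Subgroup.eq_of_le_of_card_ge (fun x hx => (hQmem x).2 (omegaOne_le S hx))
      (by rw [hQ4, hA'c])
    have hMc : Subgroup.center M = ⊥ := (inferInstance : (Subgroup.center M).Normal).eq_bot_or_eq_top.resolve_right
      fun e => hMnc ⟨⟨fun x y => (Subgroup.mem_center_iff.1 (e ▸ mem_top y) x)⟩⟩
    obtain ⟨s, hs, hsA⟩ := exists_notMem hT
    set α : MulAut M := MulAut.conjNormal s with hα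
    have hαpow : ∃ j : ℕ, orderOf α = 2 ^ j := by
      obtain ⟨k, hk⟩ := S.2 ⟨s, hs⟩
      have h1 : orderOf α ∣ 2 ^ k := orderOf_dvd_of_pow_eq_one (by
        rw [hα, ← map_pow, show s ^ 2 ^ k = 1 from congrArg Subtype.val hk, map_one])
      obtain ⟨j, -, hj⟩ := (Nat.dvd_prime_pow Nat.prime_two).1 h1
      exact ⟨j, hj⟩
    have hαfix : ∀ x ∈ (Q : Subgroup M), α x = x := fun x hx => Subtype.ext (by
      rw [hα, MulAut.conjNormal_apply]
      have hxA : (x : G) ∈ omegaOne S := mem_subgroupOf.1 (hQA ▸ hx : x ∈ A')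
      rw [← mem_centralizer_iff.1 (le_centralizer_omegaOne hT hs) x hxA, mul_inv_cancel_right])
    haveI := hQab
    obtain ⟨g, hg⟩ := ZStar.aut_inner_of_abelian_sylow ZStarPrimePower.uniqueInvolutionZStar_proved hMc hMO Q α
      hαpow hαfix
    have hsg : (g : G)⁻¹ * s ∈ centralizer (M : Set G) := mem_centralizer_iff.2 fun x hx => by
      have h := congrArg Subtype.val (DFunLike.congr_fun hg ⟨x, hx⟩)
      rw [hα, MulAut.conjNormal_apply, MulAut.conj_apply, Subgroup.coe_mul, Subgroup.coe_mul,
        Subgroup.coe_inv] at h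
      have h' : (g : G) * x * (g : G)⁻¹ = s * x * s⁻¹ := h
      calc x * ((g : G)⁻¹ * s) = (g : G)⁻¹ * ((g : G) * x * (g : G)⁻¹) * s := by group
        _ = (g : G)⁻¹ * (s * x * s⁻¹) * s := by rw [h']
        _ = _ := by group
    rw [hCM, Subgroup.mem_bot, inv_mul_eq_one] at hsg
    refine hsA ?_
    have hsM : (⟨s, hsg ▸ g.2⟩ : M) ∈ (Q : Subgroup M) := (hQmem _).2 hs
    exact mem_subgroupOf.1 (hQA ▸ hsM : (⟨s, hsg ▸ g.2⟩ : M) ∈ A')
  · left
    have hset : Goldschmidt.ThreeInv.Setting Q A' :=
      { card := hA'c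
        le := fun x hx => (hQmem x).2 (omegaOne_le S hx)
        mem := hmem'
        central := fun x hx => mem_centralizer_iff.2 fun y hy => Subtype.ext
          (mem_centralizer_iff.1 (le_centralizer_omegaOne hT ((hQmem x).1 hx)) y hy)
        nonab := hQab }
    obtain ⟨H, hH⟩ := hTI M Q A' hset
    obtain ⟨K, _, _, hK, he, hQc⟩ := psu_of_stronglyEmbedded hH hset
    have hSM : (S : Subgroup G) ≤ M := by
      have hle : (Q : Subgroup M).map M.subtype ≤ (S : Subgroup G) := by
        rintro _ ⟨x, hx, rfl⟩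
        exact (hQmem x).1 hx
      have heq := Subgroup.eq_of_le_of_card_ge hle (by
        rw [Subgroup.card_map_of_injective M.subtype_injective, hQc, hT.shape.card]
        norm_num)
      rw [← heq]
      exact Subgroup.map_subtype_le _
    have hMtop : M = ⊤ := hO' M hMn (Nat.not_even_iff_odd.1 fun he' => S.not_dvd_index
      ((even_iff_two_dvd.1 he').trans (Subgroup.index_dvd_of_le hSM)))
    exact nonempty_psu hK hF ⟨((MulEquiv.subgroupCongr hMtop).trans Subgroup.topEquiv).symm.trans he.some⟩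

end Cfsg.Agent.UFourSylow
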