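import Cfsg.Agent.Lib.UFourSylow.Basic

/-!
# Invariant subgroups of the Sylow 2-subgroup of `PSU 3 F 4` (owner: helper88)

* `eq_top_of_invariant` : a non-trivial automorphism of odd order centralising the centre leaves no
  proper subgroup properly above the centre invariant.
-/

set_option autoImplicit false
set_option linter.style.haveILetI false

namespace Cfsg.Agent.UFourSylow

open Subgroup Cfsg.Agent.TwoNilCent

variable {T : Type*} [Group T] [Finite T]

/-- A non-trivial automorphism of odd order centralising the centre has no proper invariant subgroup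
properly containing the centre. -/
theorem eq_top_of_invariant (hT : USylow T) {σ : MulAut T} (hfix : ∀ z ∈ Subgroup.center T, σ z = z)
    (hodd : Odd (orderOf σ)) (hne : σ ≠ 1) {U : Subgroup T} (hZU : Subgroup.center T ≤ U)
    (hU : U ≠ Subgroup.center T) (hinv : ∀ x ∈ U, σ x ∈ U) : U = ⊤ := by
  have hn1 : orderOf σ ≠ 1 := fun h => hne (orderOf_eq_one_iff.1 h)
  obtain ⟨p, hp, hpn⟩ := Nat.exists_prime_and_dvd hn1
  haveI : Fact p.Prime := ⟨hp⟩
  set τ := σ ^ (orderOf σ / p) with hτdef
  have hn0 : 0 < orderOf σ := Odd.pos hodd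
  have hτo : orderOf τ = p := by
    rw [hτdef, orderOf_pow_of_dvd (Nat.div_pos (Nat.le_of_dvd hn0 hpn) hp.pos).ne' (Nat.div_dvd_of_dvd hpn),
      Nat.div_div_self hpn hn0.ne']
  have hτodd : Odd (orderOf τ) := hτo ▸ hodd.of_dvd_nat hpn
  have hτne : τ ≠ 1 := fun h => hp.one_lt.ne' (hτo.symm.trans (by rw [h, orderOf_one]))
  have hpow : ∀ k : ℕ, (∀ z ∈ Subgroup.center T, (σ ^ k) z = z) ∧ ∀ x ∈ U, (σ ^ k) x ∈ U := by
    intro k
    induction k with
    | zero => exact ⟨fun z _ => rfl, fun x hx => hx⟩
    | succ k ih =>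
      refine ⟨fun z hz => ?_, fun x hx => ?_⟩
      · rw [pow_succ', MulAut.mul_apply, ih.1 z hz, hfix z hz]
      · rw [pow_succ', MulAut.mul_apply]
        exact hinv _ (ih.2 x hx)
  obtain ⟨hτfix, hτU⟩ := hpow (orderOf σ / p)
  have hfpf : ∀ x : T, x⁻¹ * τ x ∈ Subgroup.center T → x ∈ Subgroup.center T := fun x hx => by
    by_contra hx'
    exact hτne (aut_eq_one hT.shape hτfix hτodd hx' hx)
  set q := QuotientGroup.mk' (Subgroup.center T) with hq
  have hmap : (Subgroup.center T).map τ.toMonoidHom = Subgroup.center T := by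
    refine le_antisymm ?_ fun x hx => Subgroup.mem_map.2 ⟨x, hx, hτfix x hx⟩
    rintro x ⟨y, hy, rfl⟩
    show τ y ∈ Subgroup.center T
    rw [hτfix y hy]
    exact hy
  let e : MulAut (T ⧸ Subgroup.center T) := QuotientGroup.congr _ _ τ hmap
  have he : ∀ x : T, e (q x) = q (τ x) := fun x => rfl
  have heq : ∀ x y : T, q x = q y ↔ x⁻¹ * y ∈ Subgroup.center T := fun x y => QuotientGroup.eq
  have hefpf : ∀ v, e v = v → v = 1 := fun v hv => by
    obtain ⟨x, rfl⟩ := QuotientGroup.mk'_surjective _ v
    rw [he] at hv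
    exact (QuotientGroup.eq_one_iff x).2 (hfpf x ((heq _ _).1 hv.symm))
  have hepow : e ^ p = 1 := by
    refine MulEquiv.ext fun v => ?_
    obtain ⟨x, rfl⟩ := QuotientGroup.mk'_surjective _ v
    have h : ∀ k : ℕ, (e ^ k) (q x) = q ((τ ^ k) x) := by
      intro k
      induction k with
      | zero => rfl
      | succ k ih => rw [pow_succ', MulAut.mul_apply, ih, he, pow_succ', MulAut.mul_apply]
    rw [h p, ← hτo, pow_orderOf_eq_one]
    rfl
  obtain ⟨s, hsU, hs⟩ : ∃ s ∈ U, s ∉ Subgroup.center T := by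
    by_contra h
    push Not at h
    exact hU (le_antisymm h hZU)
  have hene : e ≠ 1 := fun h => hs ((QuotientGroup.eq_one_iff s).1 (hefpf (q s) (by rw [h]; rfl)))
  have hV : Nat.card (T ⧸ Subgroup.center T) = 16 := by
    have h := Subgroup.card_eq_card_quotient_mul_card_subgroup (Subgroup.center T)
    rw [hT.shape.card, hT.shape.center_card] at h
    omega
  have h16 := card_mod_eq_one hepow hene hefpf
  rw [hV] at h16
  have hp15 : p ∣ 15 := (Nat.modEq_iff_dvd' (by norm_num)).1 h16.symm
  have hp35 : p = 3 ∨ p = 5 := by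
    have hd : p ∈ Nat.divisors 15 := Nat.mem_divisors.2 ⟨hp15, by norm_num⟩
    rw [show Nat.divisors 15 = {1, 3, 5, 15} from rfl] at hd
    simp only [Finset.mem_insert, Finset.mem_singleton] at hd
    rcases hd with h | h | h | h
    · exact absurd h hp.one_lt.ne'
    · exact Or.inl h
    · exact Or.inr h
    · exact absurd (h ▸ hp) (by norm_num)
  have hsq : ∀ x : T, q x * q x = 1 := fun x => by
    rw [← map_mul]
    exact (QuotientGroup.eq_one_iff _).2 (hT.shape.sq_center x)
  have hVc : ∀ a b : T ⧸ Subgroup.center T, a * b = b * a := fun a b => by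
    have h2 : ∀ v : T ⧸ Subgroup.center T, v⁻¹ = v := fun v => by
      obtain ⟨x, rfl⟩ := QuotientGroup.mk'_surjective _ v
      exact inv_eq_of_mul_eq_one_right (hsq x)
    have := h2 (a * b)
    rw [mul_inv_rev, h2, h2] at this
    exact this.symm
  rcases hp35 with rfl | rfl
  · exfalso
    set t := τ s with ht
    set u := τ t with hu
    have hus : τ u = s := by
      have := DFunLike.congr_fun (show τ ^ 3 = 1 by rw [← hτo, pow_orderOf_eq_one]) s
      rw [pow_succ, pow_two, MulAut.mul_apply, MulAut.mul_apply, MulAut.one_apply] at this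
      exact this
    have hw : s * t * u ∈ Subgroup.center T := by
      refine hfpf _ ((heq _ _).1 ?_)
      rw [map_mul τ, map_mul τ, hus, ← ht, ← hu]
      simp only [map_mul]
      rw [hVc (q t * q u) (q s), mul_assoc]
    set z := s * t * u with hz
    have hu' : u = (s * t)⁻¹ * z := by rw [hz]; group
    have hz2 : z * z = 1 := (hT.shape.inv_iff z).2 hw
    have hc2 := (hT.shape.inv_iff ((s * t) * (s * t))).2 (hT.shape.sq_center _)
    have huu : u * u = (s * t) * (s * t) := by
      rw [hu']
      calc (s * t)⁻¹ * z * ((s * t)⁻¹ * z) = (s * t)⁻¹ * (z * (s * t)⁻¹) * z := by group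
        _ = (s * t)⁻¹ * ((s * t)⁻¹ * z) * z := by rw [← Subgroup.mem_center_iff.1 hw (s * t)⁻¹]
        _ = ((s * t) * (s * t))⁻¹ * (z * z) := by group
        _ = (s * t) * (s * t) := by rw [hz2, mul_one, inv_eq_of_mul_eq_one_right hc2]
    have hfs : τ (s * s) = s * s := hτfix _ (hT.shape.sq_center s)
    have htt : t * t = s * s := by rw [ht, ← map_mul, hfs]
    have huu' : u * u = s * s := by rw [hu, ← map_mul, htt, hfs]
    exact hs (hT.noQuat s t htt.symm (huu.symm.trans huu'))
  · set W := U.map q with hW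
    have hWe : W.map e.toMonoidHom = W := by
      refine Subgroup.eq_of_le_of_card_ge ?_ (Subgroup.card_map_of_injective (f := e.toMonoidHom) e.injective).ge
      rintro _ ⟨_, ⟨x, hx, rfl⟩, rfl⟩
      exact ⟨τ x, hτU x hx, (he x).symm⟩
    let f : MulAut W := (e.subgroupMap W).trans (MulEquiv.subgroupCongr hWe)
    have hf : ∀ w : W, ((f w : W) : T ⧸ Subgroup.center T) = e w := fun w => rfl
    have hffpf : ∀ w, f w = w → w = 1 := fun w hw =>
      Subtype.ext (hefpf _ ((hf w).symm.trans (congrArg Subtype.val hw)))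
    have hfpow : f ^ 5 = 1 := by
      refine MulEquiv.ext fun w => Subtype.ext ?_
      have h : ∀ k : ℕ, (((f ^ k) w : W) : T ⧸ Subgroup.center T) = (e ^ k) w := by
        intro k
        induction k with
        | zero => rfl
        | succ k ih => rw [pow_succ', MulAut.mul_apply, hf, ih, pow_succ', MulAut.mul_apply]
      rw [h 5, hepow]
      rfl
    have hqs : q s ≠ 1 := fun h => hs ((QuotientGroup.eq_one_iff s).1 h)
    have hfne : f ≠ 1 := fun h => hqs
      (congrArg Subtype.val (hffpf ⟨q s, mem_map_of_mem _ hsU⟩ (by rw [h]; rfl)))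
    have h5 := card_mod_eq_one hfpow hfne hffpf
    have hd : Nat.card W ∣ 16 := hV ▸ card_subgroup_dvd_card W
    have h1 : 1 < Nat.card W := by
      rw [Subgroup.one_lt_card_iff_ne_bot]
      exact fun h => hqs (Subgroup.mem_bot.1 (h ▸ mem_map_of_mem _ hsU))
    have h16' : Nat.card W = 16 := by
      have hmem : Nat.card W ∈ Nat.divisors 16 := Nat.mem_divisors.2 ⟨hd, by norm_num⟩
      rw [show Nat.divisors 16 = {1, 2, 4, 8, 16} from rfl] at hmem
      simp only [Finset.mem_insert, Finset.mem_singleton] at hmem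
      rcases hmem with h | h | h | h | h <;> rw [h] at h5 h1 ⊢ <;>
        first | rfl | omega | exact absurd h5 (by decide)
    have hWtop : W = ⊤ := Subgroup.eq_top_of_card_eq _ (h16'.trans hV.symm)
    refine eq_top_iff.2 fun x _ => ?_
    obtain ⟨y, hy, hyx⟩ := (hWtop ▸ Subgroup.mem_top (q x) : q x ∈ W)
    have := hZU ((heq y x).1 hyx)
    exact mul_inv_cancel_left y x ▸ U.mul_mem hy this

end Cfsg.Agent.UFourSylow
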