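import Cfsg.Agent.Lib.UFourSylow.Invariant
import Cfsg.Agent.Lib.Cores.Subnormal

/-!
# The centre of a Sylow 2-subgroup of `PSU 3 F 4` type inside the group (owner: helper88)

* `omegaOne S` : the image of the centre of `S`;
* `setting` : the setting of the three involution theorem;
* `exists_pow_mem` : elements of `N(S)` have an odd power in `S`;
* `exists_decomp` : an element of `N(S) ∩ C(A)` fixing a noncentral coset lies in `C(S) S`.
-/

set_option autoImplicit false
set_option linter.style.haveILetI false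
set_option linter.unusedSectionVars false

namespace Cfsg.Agent.UFourSylow

open Subgroup

universe u

variable {G : Type u} [Group G] [Finite G] (S : Sylow 2 G)

/-- The centre of `S`, as a subgroup of `G`. -/
def omegaOne : Subgroup G :=
  (Subgroup.center ↥(S : Subgroup G)).map (S : Subgroup G).subtype

theorem omegaOne_le : omegaOne S ≤ (S : Subgroup G) := by
  rintro _ ⟨z, -, rfl⟩
  exact z.2

theorem mem_omegaOne_iff {x : G} (hx : x ∈ (S : Subgroup G)) :
    x ∈ omegaOne S ↔ (⟨x, hx⟩ : (S : Subgroup G)) ∈ Subgroup.center ↥(S : Subgroup G) := by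
  refine ⟨?_, fun h => ⟨_, h, rfl⟩⟩
  rintro ⟨z, hz, he⟩
  rwa [show (⟨x, hx⟩ : (S : Subgroup G)) = z from Subtype.ext he.symm]

variable {S} (hT : USylow ↥(S : Subgroup G))
include hT

theorem card_omegaOne : Nat.card ↥(omegaOne S) = 4 := by
  rw [omegaOne, Subgroup.card_map_of_injective (S : Subgroup G).subtype_injective]
  exact hT.shape.center_card

theorem sq_eq_one_iff {x : G} (hx : x ∈ (S : Subgroup G)) : x * x = 1 ↔ x ∈ omegaOne S := by
  rw [mem_omegaOne_iff S hx, ← hT.shape.inv_iff, Subtype.ext_iff]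
  rfl

theorem le_centralizer_omegaOne : (S : Subgroup G) ≤ centralizer (omegaOne S : Set G) := by
  intro s hs
  refine mem_centralizer_iff.2 ?_
  rintro _ ⟨z, hz, rfl⟩
  exact (congrArg Subtype.val (Subgroup.mem_center_iff.1 hz ⟨s, hs⟩)).symm

theorem exists_notMem : ∃ s ∈ (S : Subgroup G), s ∉ omegaOne S := by
  by_contra h
  push Not at h
  have h1 := Subgroup.card_le_of_le (show (S : Subgroup G) ≤ omegaOne S from h)
  rw [card_omegaOne hT, hT.shape.card] at h1
  omega

theorem setting : Goldschmidt.ThreeInv.Setting S (omegaOne S) where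
  card := card_omegaOne hT
  le := omegaOne_le S
  mem := fun x hx => sq_eq_one_iff hT hx
  central := le_centralizer_omegaOne hT
  nonab := fun h => by
    have h1 : Subgroup.center ↥(S : Subgroup G) = ⊤ :=
      eq_top_iff.2 fun x _ => Subgroup.mem_center_iff.2 fun y => h.is_comm.comm y x
    have := hT.shape.center_card
    rw [h1, Subgroup.card_top, hT.shape.card] at this
    omega

omit hT

theorem exists_pow_mem {g : G} (hg : g ∈ normalizer ((S : Subgroup G) : Set G)) :
    ∃ m : ℕ, Odd m ∧ g ^ m ∈ (S : Subgroup G) := by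
  haveI : Fact (Nat.Prime 2) := ⟨Nat.prime_two⟩
  set N := normalizer ((S : Subgroup G) : Set G)
  haveI : ((S : Subgroup G).subgroupOf N).Normal := Subgroup.normal_in_normalizer
  refine ⟨((S : Subgroup G).subgroupOf N).index, Nat.not_even_iff_odd.1 fun he => ?_, ?_⟩
  · have hdvd : ((S : Subgroup G).subgroupOf N).index ∣ (S : Subgroup G).index :=
      Subgroup.relIndex_dvd_index_of_le le_normalizer
    exact S.not_dvd_index ((even_iff_two_dvd.1 he).trans hdvd)
  · exact mem_subgroupOf.1 (Subgroup.pow_index_mem ((S : Subgroup G).subgroupOf N) (⟨g, hg⟩ : N))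

include hT

/-- An element of `N(S)` centralising the centre and fixing a noncentral coset lies in `C(S) S`. -/
theorem exists_decomp {g : G} (hg : g ∈ normalizer ((S : Subgroup G) : Set G))
    (hgA : g ∈ centralizer (omegaOne S : Set G)) {s : G} (hs : s ∈ (S : Subgroup G))
    (hsA : s ∉ omegaOne S) (hfix : s⁻¹ * (g * s * g⁻¹) ∈ omegaOne S) :
    ∃ c x : G, c ∈ centralizer ((S : Subgroup G) : Set G) ∧ x ∈ (S : Subgroup G) ∧ g = c * x := by
  obtain ⟨m, hm, hmS⟩ := exists_pow_mem hg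
  set φ : MulAut ↥(S : Subgroup G) := (S : Subgroup G).normalizerMonoidHom ⟨g, hg⟩ with hφ
  have hpow : ∀ (k : ℕ) (y : (S : Subgroup G)), (((φ ^ k) y : (S : Subgroup G)) : G) = g ^ k * y * (g ^ k)⁻¹ := by
    intro k y
    rw [hφ, ← map_pow]
    rfl
  have hzfix : ∀ k : ℕ, ∀ z ∈ Subgroup.center ↥(S : Subgroup G), (φ ^ k) z = z := fun k z hz => by
    refine Subtype.ext ((hpow k z).trans ?_)
    have h1 := mem_centralizer_iff.1 (pow_mem hgA k) z ⟨z, hz, rfl⟩
    rw [← h1, mul_inv_cancel_right]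
  -- a 2-power of the exponent making the inner part trivial
  obtain ⟨e, he⟩ := S.2 ⟨g ^ m, hmS⟩
  have he' : g ^ (m * 2 ^ e) = 1 := by rw [pow_mul]; exact congrArg Subtype.val he
  have hodd : Odd (orderOf (φ ^ 2 ^ e)) := by
    refine hm.of_dvd_nat (orderOf_dvd_of_pow_eq_one ?_)
    rw [← pow_mul, mul_comm, hφ, ← map_pow]
    rw [show (⟨g, hg⟩ : normalizer ((S : Subgroup G) : Set G)) ^ (m * 2 ^ e) = 1 from Subtype.ext he', map_one]
  have hs' : (⟨s, hs⟩ : (S : Subgroup G)) ∉ Subgroup.center ↥(S : Subgroup G) :=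
    fun h => hsA ((mem_omegaOne_iff S hs).2 h)
  have hfix' : ∀ k : ℕ,
      (⟨s, hs⟩ : (S : Subgroup G))⁻¹ * (φ ^ k) ⟨s, hs⟩ ∈ Subgroup.center ↥(S : Subgroup G) := by
    have h1 : (⟨s, hs⟩ : (S : Subgroup G))⁻¹ * φ ⟨s, hs⟩ ∈ Subgroup.center ↥(S : Subgroup G) :=
      (mem_omegaOne_iff S _).1 (by
        show s⁻¹ * ((φ ⟨s, hs⟩ : (S : Subgroup G)) : G) ∈ omegaOne S
        have := hpow 1 ⟨s, hs⟩
        rw [pow_one, pow_one] at this
        rw [this]
        exact hfix)
    intro k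
    induction k with
    | zero => simp
    | succ k ih =>
      rw [pow_succ', MulAut.mul_apply]
      have h2 : (φ ^ k) ⟨s, hs⟩ = ⟨s, hs⟩ * ((⟨s, hs⟩ : (S : Subgroup G))⁻¹ * (φ ^ k) ⟨s, hs⟩) := by group
      rw [h2, map_mul]
      have h3 := hzfix 1 _ ih
      rw [pow_one] at h3
      rw [h3, ← mul_assoc]
      exact mul_mem h1 ih
  have h1 := aut_eq_one hT.shape (hzfix _) hodd hs' (hfix' _)
  have hc : g ^ 2 ^ e ∈ centralizer ((S : Subgroup G) : Set G) := mem_centralizer_iff.2 fun y hy => by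
    have := hpow (2 ^ e) ⟨y, hy⟩
    rw [h1, MulAut.one_apply] at this
    exact mul_inv_eq_iff_eq_mul.1 this.symm |>.symm
  have hco : Nat.gcd (2 ^ e) m = 1 := Nat.Coprime.pow_left e (Nat.coprime_two_left.2 hm)
  refine ⟨(g ^ 2 ^ e) ^ Nat.gcdA (2 ^ e) m, (g ^ m) ^ Nat.gcdB (2 ^ e) m, zpow_mem hc _, zpow_mem hmS _, ?_⟩
  rw [← zpow_natCast g (2 ^ e), ← zpow_natCast g m, ← zpow_mul, ← zpow_mul, ← zpow_add,
    ← Nat.gcd_eq_gcd_ab, hco, Nat.cast_one, zpow_one]

end Cfsg.Agent.UFourSylow
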