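import Cfsg.Agent.Lib.UFourSylow.CentralHelp
import Cfsg.Agent.Lib.TwoNilCent.Basic
import Cfsg.Agent.Lib.Involution.KleinFour

/-!
# The case of a central `Z(S)` (owner: helper88)

* `sylow_eq_top_of_central` : without odd core and proper normal subgroups of odd index, a group
  with central `Z(S)` and `S` of `PSU 3 F 4` type is `S`.
-/

set_option autoImplicit false
set_option linter.style.haveILetI false

namespace Cfsg.Agent.UFourSylow

open Subgroup

universe u

variable {G : Type u} [Group G] [Finite G]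

/-- A group with central `Z(S)`, no odd core and no proper normal subgroup of odd index is `S`. -/
theorem sylow_eq_top_of_central {S : Sylow 2 G} (hT : USylow ↥(S : Subgroup G))
    (hA : omegaOne S ≤ Subgroup.center G) (hO : Cfsg.oddCore G = ⊥)
    (hO' : ∀ N : Subgroup G, N.Normal → Odd N.index → N = ⊤) : (S : Subgroup G) = ⊤ := by
  haveI : Fact (Nat.Prime 2) := ⟨Nat.prime_two⟩
  haveI := omegaOne_normal hA
  set A := omegaOne S with hAdef
  set f := QuotientGroup.mk' A with hf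
  have hfs : Function.Surjective f := QuotientGroup.mk'_surjective A
  set P : Sylow 2 (G ⧸ A) := S.mapSurjective hfs with hP
  have hPc : (P : Subgroup (G ⧸ A)) = (S : Subgroup G).map f := Sylow.coe_mapSurjective hfs S
  have hf1 : ∀ g, f g = 1 ↔ g ∈ A := fun g => QuotientGroup.eq_one_iff g
  have hfeq : ∀ x y, f x = f y ↔ x⁻¹ * y ∈ A := fun x y => QuotientGroup.eq
  have hmemS : ∀ g, f g ∈ (P : Subgroup (G ⧸ A)) ↔ g ∈ (S : Subgroup G) := by
    intro g
    rw [hPc]
    refine ⟨?_, fun h => mem_map_of_mem f h⟩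
    rintro ⟨x, hx, hxg⟩
    have := omegaOne_le S ((hfeq x g).1 hxg)
    exact mul_inv_cancel_left x g ▸ (S : Subgroup G).mul_mem hx this
  have hnormlift : ∀ g, f g ∈ normalizer ((P : Subgroup (G ⧸ A)) : Set (G ⧸ A)) →
      g ∈ normalizer ((S : Subgroup G) : Set G) := by
    intro g hg
    refine mem_normalizer_iff.2 fun x => ?_
    rw [← hmemS x, ← hmemS (g * x * g⁻¹), map_mul, map_mul, map_inv]
    exact mem_normalizer_iff.1 hg (f x)
  have hgA : ∀ g : G, g ∈ centralizer (A : Set G) := fun g =>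
    mem_centralizer_iff.2 fun a ha => (Subgroup.mem_center_iff.1 (hA ha) g).symm
  have hcommS : ∀ y ∈ (S : Subgroup G), ∀ x ∈ (S : Subgroup G), x⁻¹ * (y * x * y⁻¹) ∈ A := by
    intro y hy x hx
    have h := hT.shape.commutator_mem (⟨x, hx⟩ : (S : Subgroup G))⁻¹ ⟨y, hy⟩
    rw [inv_inv] at h
    have := (mem_omegaOne_iff S ((S : Subgroup G).mul_mem ((S : Subgroup G).mul_mem
      ((S : Subgroup G).mul_mem ((S : Subgroup G).inv_mem hx) hy) hx) ((S : Subgroup G).inv_mem hy))).2 h
    rw [hAdef]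
    simpa [mul_assoc] using this
  have hdec : ∀ g c y : G, c ∈ centralizer ((S : Subgroup G) : Set G) → y ∈ (S : Subgroup G) → g = c * y →
      ∀ x ∈ (S : Subgroup G), x⁻¹ * (g * x * g⁻¹) ∈ A := by
    rintro g c y hc hy rfl x hx
    have h1 : y * x * y⁻¹ ∈ (S : Subgroup G) :=
      (S : Subgroup G).mul_mem ((S : Subgroup G).mul_mem hy hx) ((S : Subgroup G).inv_mem hy)
    have h2 := mem_centralizer_iff.1 hc _ h1
    have h3 : c * y * x * (c * y)⁻¹ = y * x * y⁻¹ := by
      calc c * y * x * (c * y)⁻¹ = c * (y * x * y⁻¹) * c⁻¹ := by group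
        _ = y * x * y⁻¹ := by rw [← h2, mul_inv_cancel_right]
    rw [h3]
    exact hcommS y hy x hx
  have htriv : ∀ g ∈ normalizer ((S : Subgroup G) : Set G),
      (∀ x ∈ (S : Subgroup G), x⁻¹ * (g * x * g⁻¹) ∈ A) →
      f g ∈ centralizer ((P : Subgroup (G ⧸ A)) : Set (G ⧸ A)) := by
    intro g _ h
    refine mem_centralizer_iff.2 fun v hv => ?_
    obtain ⟨x, rfl⟩ := hfs v
    have h1 := (hfeq _ _).2 (h x ((hmemS x).1 hv))
    rw [map_mul f, map_mul f, map_inv, eq_mul_inv_iff_mul_eq] at h1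
    exact h1
  by_cases hall : ∀ g ∈ normalizer ((S : Subgroup G) : Set G), ∀ x ∈ (S : Subgroup G),
      x⁻¹ * (g * x * g⁻¹) ∈ A
  · -- a normal complement in the quotient
    obtain ⟨M, hM, hMc⟩ := Transfer.exists_normal_complement_of_normalizer_le_centralizer
      (P : Subgroup (G ⧸ A)) P.card_coprime_index (fun v hv => by
        obtain ⟨g, rfl⟩ := hfs v
        exact htriv g (hnormlift g hv) (hall g (hnormlift g hv)))
    have hK : M.comap f = A := eq_of_inf_le hT hA hO (hM.comap f)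
      (fun a ha => by rw [mem_comap, (hf1 a).2 ha]; exact one_mem _) (by
        rintro x ⟨hxM, hxS⟩
        refine (hf1 x).1 (Subgroup.mem_bot.1 ?_)
        rw [← hMc.disjoint.eq_bot]
        exact ⟨hxM, (hmemS x).2 hxS⟩)
    have hMb : M = ⊥ := by
      rw [← Subgroup.map_comap_eq_self_of_surjective hfs M, hK]
      exact (Subgroup.map_eq_bot_iff _).2 (QuotientGroup.ker_mk' A).ge
    have hPtop : (P : Subgroup (G ⧸ A)) = ⊤ := by
      rw [hMb] at hMc
      exact Subgroup.isComplement'_bot_left.1 hMc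
    exact eq_top_iff.2 fun g _ => (hmemS g).1 (hPtop ▸ Subgroup.mem_top _)
  exfalso
  push Not at hall
  obtain ⟨g, hg, x₀, hx₀, hx₀A⟩ := hall
  -- a non-trivial automorphism of odd order of `S` induced in `G`
  obtain ⟨m, hm, hmS⟩ := exists_pow_mem hg
  obtain ⟨e, he⟩ := S.2 ⟨g ^ m, hmS⟩
  set k := g ^ 2 ^ e with hk
  have hkN : k ∈ normalizer ((S : Subgroup G) : Set G) := pow_mem hg _
  set σ : MulAut ↥(S : Subgroup G) := (S : Subgroup G).normalizerMonoidHom ⟨k, hkN⟩ with hσ
  have hσv : ∀ y : (S : Subgroup G), ((σ y : (S : Subgroup G)) : G) = k * y * k⁻¹ := fun y => rfl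
  have hσodd : Odd (orderOf σ) := by
    refine hm.of_dvd_nat (orderOf_dvd_of_pow_eq_one ?_)
    have h1 : k ^ m = 1 := by
      rw [hk, ← pow_mul, mul_comm, pow_mul]
      exact congrArg Subtype.val he
    rw [hσ, ← map_pow, show (⟨k, hkN⟩ : normalizer ((S : Subgroup G) : Set G)) ^ m = 1 from Subtype.ext h1,
      map_one]
  have hσfix : ∀ z ∈ Subgroup.center ↥(S : Subgroup G), σ z = z := fun z hz => Subtype.ext (by
    have h1 : k * (z : G) = (z : G) * k := Subgroup.mem_center_iff.1 (hA (mem_map_of_mem _ hz)) k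
    rw [hσv, h1, mul_inv_cancel_right])
  have hσne : σ ≠ 1 := by
    intro h
    have hkc : k ∈ centralizer ((S : Subgroup G) : Set G) := mem_centralizer_iff.2 fun y hy => by
      have := hσv ⟨y, hy⟩
      rw [h, MulAut.one_apply] at this
      exact eq_mul_inv_iff_mul_eq.1 this
    have hco : Nat.gcd (2 ^ e) m = 1 := Nat.Coprime.pow_left e (Nat.coprime_two_left.2 hm)
    refine hx₀A (hdec g (k ^ Nat.gcdA (2 ^ e) m) ((g ^ m) ^ Nat.gcdB (2 ^ e) m) (zpow_mem hkc _)
      (zpow_mem hmS _) ?_ x₀ hx₀)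
    rw [hk, ← zpow_natCast g (2 ^ e), ← zpow_natCast g m, ← zpow_mul, ← zpow_mul, ← zpow_add,
      ← Nat.gcd_eq_gcd_ab, hco, Nat.cast_one, zpow_one]
  have hN : ∀ N : Subgroup G, N.Normal → A ≤ N → N ≠ A → N = ⊤ := by
    intro N hN hAN hne
    set U := N.subgroupOf (S : Subgroup G) with hU
    have hZU : Subgroup.center ↥(S : Subgroup G) ≤ U := fun z hz =>
      mem_subgroupOf.2 (hAN ⟨z, hz, rfl⟩)
    have hUZ : U ≠ Subgroup.center ↥(S : Subgroup G) := fun h => hne (eq_of_inf_le hT hA hO hN hAN (by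
      rintro x ⟨hxN, hxS⟩
      exact (mem_omegaOne_iff S hxS).2 (h ▸ mem_subgroupOf.2 hxN)))
    have hUtop := eq_top_of_invariant hT hσfix hσodd hσne hZU hUZ (fun y hy => by
      rw [hU, mem_subgroupOf, hσv]
      exact hN.conj_mem _ (mem_subgroupOf.1 hy) k)
    refine hO' N hN (Nat.not_even_iff_odd.1 fun he => S.not_dvd_index ?_)
    exact (even_iff_two_dvd.1 he).trans (Subgroup.index_dvd_of_le (subgroupOf_eq_top.1 hUtop))
  obtain ⟨s, hs, hsA⟩ := exists_notMem hT
  haveI hsimple : IsSimpleGroup (G ⧸ A) := by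
    haveI : Nontrivial (G ⧸ A) := ⟨⟨f s, 1, fun h => hsA ((hf1 s).1 h)⟩⟩
    refine ⟨fun M hM => ?_⟩
    by_cases h : M.comap f = A
    · left
      rw [← Subgroup.map_comap_eq_self_of_surjective hfs M, h]
      exact (Subgroup.map_eq_bot_iff _).2 (QuotientGroup.ker_mk' A).ge
    · right
      rw [← Subgroup.map_comap_eq_self_of_surjective hfs M,
        hN _ (hM.comap f) (fun a ha => by rw [mem_comap, (hf1 a).2 ha]; exact one_mem _) h,
        Subgroup.map_top_of_surjective f hfs]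
  have hPcard : Nat.card ↥(P : Subgroup (G ⧸ A)) = 16 := by
    have h1 : (S : Subgroup G) = (P : Subgroup (G ⧸ A)).comap f := by
      ext y
      rw [mem_comap, hmemS]
    have h2 : Nat.card ↥(S : Subgroup G) = 4 * Nat.card ↥(P : Subgroup (G ⧸ A)) := by
      rw [h1, hf, card_comap_quot, card_omegaOne hT]
    rw [hT.shape.card] at h2
    omega
  have hPab : IsMulCommutative ↥(P : Subgroup (G ⧸ A)) := ⟨⟨fun v w => Subtype.ext (by
    obtain ⟨x, hx⟩ := hfs v.1
    obtain ⟨y, hy⟩ := hfs w.1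
    show (v : G ⧸ A) * w = w * v
    rw [← hx, ← hy]
    have hxS := (hmemS x).1 (hx ▸ v.2)
    have hyS := (hmemS y).1 (hy ▸ w.2)
    have h1 := (hfeq _ _).2 (hcommS x hxS y hyS)
    rw [map_mul, map_mul, map_inv, eq_mul_inv_iff_mul_eq] at h1
    exact h1.symm)⟩⟩
  have hPexp : ∀ v ∈ (P : Subgroup (G ⧸ A)), v ^ 2 = 1 := by
    intro v hv
    obtain ⟨x, rfl⟩ := hfs v
    have hx := (hmemS x).1 hv
    rw [pow_two, ← map_mul, hf1]
    exact (mem_omegaOne_iff S ((S : Subgroup G).mul_mem hx hx)).2 (hT.shape.sq_center ⟨x, hx⟩)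
  have hnc : ¬ IsMulCommutative (G ⧸ A) := fun h => by
    haveI := h
    letI : CommGroup (G ⧸ A) := { (inferInstance : Group (G ⧸ A)) with mul_comm := h.is_comm.comm }
    haveI : IsCyclic (G ⧸ A) := IsSimpleGroup.isCyclic
    have hpr : (Nat.card (G ⧸ A)).Prime := IsSimpleGroup.prime_card
    have hd := card_subgroup_dvd_card (P : Subgroup (G ⧸ A))
    rw [hPcard] at hd
    rcases hpr.eq_one_or_self_of_dvd 2 ((show 2 ∣ 16 by norm_num).trans hd) with h2 | h2
    · omega
    · rw [← h2] at hd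
      omega
  have htn : TwoNilCent.TwoNil (G ⧸ A) := by
    intro t₀ ht₀
    obtain ⟨a, ha⟩ := Involution.exists_conj_mem_sylow P ht₀
    set t := a * t₀ * a⁻¹ with ht
    have htord : orderOf t = 2 := by rw [ht, Involution.orderOf_conj]; exact ht₀
    suffices h : Cfsg.HasNormalPComplement 2 ↥(centralizer ({t} : Set (G ⧸ A))) by
      have hmap : (centralizer ({t₀} : Set (G ⧸ A))).map (MulAut.conj a).toMonoidHom =
          centralizer ({t} : Set (G ⧸ A)) := by
        refine le_antisymm ?_ fun y hy => ?_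
        · rintro _ ⟨y, hy, rfl⟩
          refine mem_centralizer_singleton_iff.2 ?_
          show a * y * a⁻¹ * (a * t₀ * a⁻¹) = a * t₀ * a⁻¹ * (a * y * a⁻¹)
          calc a * y * a⁻¹ * (a * t₀ * a⁻¹) = a * (y * t₀) * a⁻¹ := by group
            _ = a * (t₀ * y) * a⁻¹ := by rw [mem_centralizer_singleton_iff.1 hy]
            _ = _ := by group
        · refine ⟨a⁻¹ * y * a, mem_centralizer_singleton_iff.2 ?_, by
            show a * (a⁻¹ * y * a) * a⁻¹ = y
            group⟩
          calc a⁻¹ * y * a * t₀ = a⁻¹ * (y * t) * a := by rw [ht]; group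
            _ = a⁻¹ * (t * y) * a := by rw [mem_centralizer_singleton_iff.1 hy]
            _ = t₀ * (a⁻¹ * y * a) := by rw [ht]; group
      exact Transfer.hasNormalPComplement_of_equiv h
        (((centralizer ({t₀} : Set (G ⧸ A))).equivMapOfInjective (MulAut.conj a).toMonoidHom
          (MulAut.conj a).injective).trans (MulEquiv.subgroupCongr hmap)).symm
    set C := centralizer ({t} : Set (G ⧸ A))
    have hPC : (P : Subgroup (G ⧸ A)) ≤ C := fun v hv =>
      mem_centralizer_singleton_iff.2 (congrArg Subtype.val (hPab.is_comm.comm ⟨v, hv⟩ ⟨t, ha⟩))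
    set Q : Sylow 2 C := P.subtype hPC
    have hQc : (Q : Subgroup C) = (P : Subgroup (G ⧸ A)).subgroupOf C := rfl
    obtain ⟨N, hN1, hN2⟩ := Transfer.exists_normal_complement_of_normalizer_le_centralizer
      (Q : Subgroup C) Q.card_coprime_index (fun v hv => by
        obtain ⟨y, hy⟩ := hfs v.1
        have hvN : f y ∈ normalizer ((P : Subgroup (G ⧸ A)) : Set (G ⧸ A)) := by
          rw [hy]
          refine mem_normalizer_iff.2 fun w => ⟨fun hw => ?_, fun hw => ?_⟩
          · exact mem_subgroupOf.1 ((mem_normalizer_iff.1 hv ⟨w, hPC hw⟩).1 (mem_subgroupOf.2 hw))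
          · have hwC : w ∈ C := by
              have h := C.mul_mem (C.mul_mem (C.inv_mem v.2) (hPC hw)) v.2
              simpa [mul_assoc] using h
            exact mem_subgroupOf.1 ((mem_normalizer_iff.1 hv ⟨w, hwC⟩).2 (mem_subgroupOf.2 hw))
        obtain ⟨x, hx⟩ := hfs t
        have hxS := (hmemS x).1 (hx ▸ ha)
        have hxA : x ∉ A := fun h => Involution.ne_one htord (hx ▸ (hf1 x).2 h)
        have hfix : x⁻¹ * (y * x * y⁻¹) ∈ A := by
          refine (hfeq _ _).1 ?_
          rw [map_mul, map_mul, map_inv, hy, hx, mem_centralizer_singleton_iff.1 v.2, mul_inv_cancel_right]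
        obtain ⟨c, z, hc, hz, hyd⟩ := exists_decomp hT (hnormlift y hvN) (hgA y) hxS hxA hfix
        have h1 := htriv y (hnormlift y hvN) (hdec y c z hc hz hyd)
        refine mem_centralizer_iff.2 fun w hw => Subtype.ext ?_
        have h2 := mem_centralizer_iff.1 h1 w (mem_subgroupOf.1 hw)
        rw [hy] at h2
        exact h2)
    exact ⟨Q, N, hN1, hN2⟩
  have hrank : ¬ Cfsg.PRankLE 2 2 (G ⧸ A) := fun h => by
    have := h (P : Subgroup (G ⧸ A)) hPab hPexp
    rw [hPcard] at this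
    norm_num at this
  have hab : ∀ t : G ⧸ A, orderOf t = 2 → IsMulCommutative ↥(centralizer ({t} : Set (G ⧸ A))) := by
    intro t ht
    obtain ⟨R, hR⟩ := (TwoNilCent.TwoNil.isPGroup_centralizer_of_rank hnc htn hrank ht).exists_le_sylow
    obtain ⟨a, rfl⟩ := MulAction.exists_smul_eq (G ⧸ A) P R
    refine ⟨⟨fun v w => Subtype.ext ?_⟩⟩
    obtain ⟨v', hv', hv⟩ := hR v.2
    obtain ⟨w', hw', hw⟩ := hR w.2
    show (v : G ⧸ A) * w = w * v
    rw [← hv, ← hw]
    have hc : v' * w' = w' * v' := congrArg Subtype.val (hPab.is_comm.comm ⟨v', hv'⟩ ⟨w', hw'⟩)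
    show a * v' * a⁻¹ * (a * w' * a⁻¹) = a * w' * a⁻¹ * (a * v' * a⁻¹)
    calc a * v' * a⁻¹ * (a * w' * a⁻¹) = a * (v' * w') * a⁻¹ := by group
      _ = a * (w' * v') * a⁻¹ := by rw [hc]
      _ = _ := by group
  -- two non-conjugate involutions
  have hs' : (⟨s, hs⟩ : (S : Subgroup G)) ∉ Subgroup.center ↥(S : Subgroup G) :=
    fun h => hsA ((mem_omegaOne_iff S hs).2 h)
  obtain ⟨w, hw, hwn⟩ : ∃ w : (S : Subgroup G), w ∈ centralizer ({⟨s, hs⟩} : Set ↥(S : Subgroup G)) ∧
      w ∉ Subgroup.center ↥(S : Subgroup G) ⊔ zpowers ⟨s, hs⟩ := by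
    by_contra h
    push Not at h
    have hle : Subgroup.center ↥(S : Subgroup G) ⊔ zpowers ⟨s, hs⟩ ≤
        Subgroup.center ↥(S : Subgroup G) ⊔ zpowers ⟨s, hs⟩ := le_rfl
    have h1 := Subgroup.card_le_of_le (show centralizer ({⟨s, hs⟩} : Set ↥(S : Subgroup G)) ≤
      Subgroup.center ↥(S : Subgroup G) ⊔ zpowers ⟨s, hs⟩ from h)
    rw [hT.shape.cent_card _ hs'] at h1
    haveI : (Subgroup.center ↥(S : Subgroup G)).Normal := inferInstance
    have h2 : Nat.card ↥(Subgroup.center ↥(S : Subgroup G) ⊔ zpowers (⟨s, hs⟩ : (S : Subgroup G)) :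
        Subgroup ↥(S : Subgroup G)) ≤ 8 := by
      have h3 : Subgroup.center ↥(S : Subgroup G) ⊔ zpowers (⟨s, hs⟩ : (S : Subgroup G)) ≤
          (zpowers (QuotientGroup.mk' (Subgroup.center ↥(S : Subgroup G)) ⟨s, hs⟩)).comap
            (QuotientGroup.mk' _) :=
        sup_le (fun z hz => by
          rw [mem_comap, show QuotientGroup.mk' (Subgroup.center ↥(S : Subgroup G)) z = 1 from
            (QuotientGroup.eq_one_iff z).2 hz]
          exact one_mem _) (zpowers_le.2 (by rw [mem_comap]; exact mem_zpowers _))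
      refine (Subgroup.card_le_of_le h3).trans ?_
      rw [card_comap_quot, hT.shape.center_card, Nat.card_zpowers]
      have h4 : orderOf (QuotientGroup.mk' (Subgroup.center ↥(S : Subgroup G)) ⟨s, hs⟩) ≤ 2 :=
        Nat.le_of_dvd two_pos (orderOf_dvd_of_pow_eq_one (by
          rw [← map_pow, QuotientGroup.mk'_apply, QuotientGroup.eq_one_iff, pow_two]
          exact hT.shape.sq_center _))
      omega
    omega
  have hwA : (w : G) ∉ A := fun h => hwn (mem_sup_left ((mem_omegaOne_iff S w.2).1 h))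
  have hinv : ∀ y ∈ (S : Subgroup G), y ∉ A → orderOf (f y) = 2 := fun y hy hyA =>
    orderOf_eq_prime (hPexp _ ((hmemS y).2 hy)) (fun h => hyA ((hf1 y).1 h))
  refine false_of_abelian_cent hnc hab (hinv s hs hsA) (hinv w w.2 hwA) fun hc => ?_
  obtain ⟨a, ha⟩ := isConj_iff.1 hc
  obtain ⟨b, rfl⟩ := hfs a
  rw [← map_inv, ← map_mul, ← map_mul, hfeq] at ha
  set z := (b * s * b⁻¹)⁻¹ * w with hz
  have hzc : z ∈ Subgroup.center G := hA ha
  have hz2 : z * z = 1 := (sq_eq_one_iff hT (omegaOne_le S ha)).2 ha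
  have hsq : (s * s : G) = w * w := by
    have h1 : (w : G) = b * s * b⁻¹ * z := by rw [hz]; group
    have hss : s * s ∈ Subgroup.center G :=
      hA ((mem_omegaOne_iff S ((S : Subgroup G).mul_mem hs hs)).2 (hT.shape.sq_center ⟨s, hs⟩))
    calc s * s = b * (s * s) * b⁻¹ := by
          rw [Subgroup.mem_center_iff.1 hss b, mul_inv_cancel_right]
      _ = b * s * b⁻¹ * (b * s * b⁻¹) * (z * z) := by rw [hz2]; group
      _ = b * s * b⁻¹ * (z * (b * s * b⁻¹)) * z := by
          rw [← Subgroup.mem_center_iff.1 hzc (b * s * b⁻¹)]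
          group
      _ = (w : G) * w := by rw [h1]; group
  have hzz := comm_of_sq hT.shape (mem_centralizer_singleton_iff.1 hw).symm
    (Subtype.ext hsq : (⟨s, hs⟩ : (S : Subgroup G)) * ⟨s, hs⟩ = w * w)
  refine hwn ?_
  rw [← mul_inv_cancel_left (⟨s, hs⟩ : (S : Subgroup G)) w]
  exact mul_mem (mem_sup_right (mem_zpowers _)) (mem_sup_left hzz)

end Cfsg.Agent.UFourSylow
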