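import Cfsg.Agent.Lib.UFourSylow.Local
import Cfsg.Agent.Lib.Transfer.NilpotentHall
import Cfsg.Agent.Lib.Involution.Basic

/-!
# Helpers for the case of a central `Z(S)` (owner: helper88)

* `eq_of_inf_le` : a normal subgroup above the central `Z(S)` meeting `S` in it equals it;
* `false_of_abelian_cent` : a simple group with non-conjugate involutions and abelian involution
  centralisers does not exist.
-/

set_option autoImplicit false
set_option linter.style.haveILetI false
set_option linter.unusedSectionVars false

namespace Cfsg.Agent.UFourSylow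

open Subgroup

universe u

variable {G : Type u} [Group G] [Finite G]

/-- Two non-conjugate involutions in a simple group whose involution centralisers are abelian: absurd. -/
theorem false_of_abelian_cent [IsSimpleGroup G] (hG : ¬ IsMulCommutative G)
    (h : ∀ t : G, orderOf t = 2 → IsMulCommutative ↥(centralizer ({t} : Set G))) {u v : G}
    (hu : orderOf u = 2) (hv : orderOf v = 2) (hne : ¬ IsConj u v) : False := by
  have hcomm : ∀ g : G, g * u * g⁻¹ ∈ centralizer ({v} : Set G) := by
    intro g
    have hu' : orderOf (g * u * g⁻¹) = 2 := by rw [Involution.orderOf_conj]; exact hu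
    have hne' : ¬ IsConj (g * u * g⁻¹) v := fun h' => hne ((isConj_iff.2 ⟨g, rfl⟩).trans h')
    obtain ⟨w, hw, hwu, hwv, -⟩ :=
      Involution.exists_commuting_involution hu' hv (Involution.even_of_not_isConj hu' hv hne')
    exact mem_centralizer_singleton_iff.2 (congrArg Subtype.val ((h w hw).is_comm.comm
      ⟨g * u * g⁻¹, mem_centralizer_singleton_iff.2 hwu.symm⟩ ⟨v, mem_centralizer_singleton_iff.2 hwv.symm⟩))
  have hle : normalClosure ({u} : Set G) ≤ centralizer ({v} : Set G) := by
    refine (closure_le _).2 fun x hx => ?_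
    obtain ⟨y, hy, hxy⟩ := Group.mem_conjugatesOfSet_iff.1 hx
    rw [Set.mem_singleton_iff] at hy
    obtain ⟨g, rfl⟩ := isConj_iff.1 hxy
    exact hy ▸ hcomm g
  rcases (normalClosure_normal (s := ({u} : Set G))).eq_bot_or_eq_top with e | e
  · have : u ∈ normalClosure ({u} : Set G) := subset_normalClosure rfl
    rw [e, mem_bot] at this
    exact Involution.ne_one hu this
  · have hvc : v ∈ Subgroup.center G :=
      Subgroup.mem_center_iff.2 fun g => mem_centralizer_singleton_iff.1 (hle (e ▸ mem_top g))
    rcases (inferInstance : (Subgroup.center G).Normal).eq_bot_or_eq_top with e' | e'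
    · exact Involution.ne_one hv (mem_bot.1 (e' ▸ hvc))
    · exact hG ⟨⟨fun a b => (Subgroup.mem_center_iff.1 (e' ▸ mem_top a) b).symm⟩⟩

/-- The preimage of a subgroup of a quotient has order the product of the orders. -/
theorem card_comap_quot (N : Subgroup G) [N.Normal] (K : Subgroup (G ⧸ N)) :
    Nat.card (K.comap (QuotientGroup.mk' N)) = Nat.card N * Nat.card K := by
  have h1 := (K.comap (QuotientGroup.mk' N)).card_mul_index
  rw [index_comap_of_surjective _ (QuotientGroup.mk'_surjective N),
    card_eq_card_quotient_mul_card_subgroup N, ← K.card_mul_index] at h1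
  refine Nat.eq_of_mul_eq_mul_right (Nat.pos_of_ne_zero K.index_ne_zero_of_finite) (h1.trans ?_)
  ring

variable {S : Sylow 2 G} (hT : USylow ↥(S : Subgroup G)) (hA : omegaOne S ≤ Subgroup.center G)
  (hO : Cfsg.oddCore G = ⊥)

include hA

theorem omegaOne_normal : (omegaOne S).Normal :=
  ⟨fun n hn g => by rw [Subgroup.mem_center_iff.1 (hA hn) g, mul_inv_cancel_right]; exact hn⟩

include hT hO

/-- A normal subgroup above the central `Z(S)` meeting `S` in it equals it. -/
theorem eq_of_inf_le {K : Subgroup G} (hK : K.Normal) (hAK : omegaOne S ≤ K)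
    (hKS : K ⊓ (S : Subgroup G) ≤ omegaOne S) : K = omegaOne S := by
  haveI : Fact (Nat.Prime 2) := ⟨Nat.prime_two⟩
  obtain ⟨Q, hQ⟩ := Cores.sylow_inf_isSubnormal S (H := K) hK.isSubnormal
  have hQA : (Q : Subgroup K) = (omegaOne S).subgroupOf K := by
    rw [hQ]
    ext x
    rw [mem_subgroupOf, mem_subgroupOf]
    exact ⟨fun h => hKS ⟨x.2, h⟩, fun h => omegaOne_le S h⟩
  have hcard : Nat.card (Q : Subgroup K) = 4 := by
    rw [hQA, Nat.card_congr (subgroupOfEquivOfLe hAK).toEquiv, card_omegaOne hT]
  obtain ⟨M, hM, hMc⟩ := Transfer.exists_normal_complement_of_normalizer_le_centralizer (Q : Subgroup K)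
    Q.card_coprime_index (fun g _ => mem_centralizer_iff.2 fun x hx => by
      have hx' : (x : G) ∈ omegaOne S := mem_subgroupOf.1 (hQA ▸ hx)
      exact Subtype.ext (Subgroup.mem_center_iff.1 (hA hx') g).symm)
  have hMcard : (Nat.card M).Coprime 2 := by
    have h1 : Nat.card M = (Q : Subgroup K).index := by
      have h2 := hMc.card_mul
      rw [← (Q : Subgroup K).index_mul_card] at h2
      exact Nat.eq_of_mul_eq_mul_right Nat.card_pos h2
    rw [h1, Nat.coprime_comm, Nat.prime_two.coprime_iff_not_dvd]
    exact Q.not_dvd_index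
  have hMbot : M = ⊥ := by
    have h2 := Subgroup.map_mono (f := K.subtype) (Cores.le_pPrimeCore hM hMcard)
    haveI := hK
    rw [Cores.pPrimeCore_map_subtype, show Cfsg.pPrimeCore 2 G = ⊥ from hO, bot_inf_eq] at h2
    exact (Subgroup.map_eq_bot_iff_of_injective M K.subtype_injective).1 (le_bot_iff.1 h2)
  refine (Subgroup.eq_of_le_of_card_ge hAK (le_of_eq ?_)).symm
  rw [card_omegaOne hT, ← hcard, ← hMc.card_mul, hMbot, Subgroup.card_bot, one_mul]

end Cfsg.Agent.UFourSylow
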